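import Cfsg.Agent.GStructClassType.BadCommute
import Cfsg.Agent.Lib.Characters.Burnside

/-!
Class sizes `1, n, m, n m`: the bad case with a pair that does not commute.
-/

set_option autoImplicit false
set_option linter.style.haveILetI false
set_option linter.unusedSectionVars false

namespace Cfsg.Agent.GStructClassType

open Subgroup
open Cfsg.Agent.GStructB.TwoSizes (cent mem_cent self_mem_cent IsL isL_conj isL_of_mem
  coprime_of_isL exists_primary)
open Cfsg.Agent.GroupStructure3.ClassGraph (centralizer_mul_eq index_inf_of_coprime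
  exists_mul_of_coprime exists_conj_le)
open scoped commutatorElement

variable {G : Type*} [Group G]

/-- A pair of primary elements of class sizes `n`, `m` no conjugates of which commute. -/
structure APair (G : Type*) [Group G] (n m p q : ℕ) (u c : G) : Prop where
  it : IT G n m
  bad : Bad G n m
  hp : p.Prime
  hq : q.Prime
  hu : IsL p u
  hc : IsL q c
  hun : ix u = n
  hcm : ix c = m
  apart : ∀ g : G, ¬ Commute u (cj g c)

variable {n m p q : ℕ} {u c : G}

theorem APair.symm (A : APair G n m p q u c) : APair G m n q p c u where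
  it := A.it.symm
  bad := A.bad.symm
  hp := A.hq
  hq := A.hp
  hu := A.hc
  hc := A.hu
  hun := A.hcm
  hcm := A.hun
  apart g hg := A.apart g⁻¹ (by
    have h := commute_cj hg g⁻¹
    rw [cj_inv_cj] at h
    exact h.symm)

theorem APair.pm (A : APair G n m p q u c) : p ∣ m := A.bad.dvd_m p u A.hp A.hu A.hun

theorem APair.qn (A : APair G n m p q u c) : q ∣ n := A.bad.dvd_n q c A.hq A.hc A.hcm

theorem APair.ne (A : APair G n m p q u c) : p ≠ q := fun e =>
  A.hp.ne_one (Nat.eq_one_of_dvd_coprimes A.it.cop (e ▸ A.qn) A.pm)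

theorem mem_centralizer_normalClosure {x a : G} (h : ∀ g : G, Commute x (cj g a)) :
    x ∈ centralizer ((normalClosure ({a} : Set G) : Subgroup G) : Set G) := by
  rw [normalClosure, centralizer_closure, mem_centralizer_iff]
  intro y hy
  obtain ⟨z, rfl, hz⟩ := Group.mem_conjugatesOfSet_iff.mp hy
  obtain ⟨g, rfl⟩ := isConj_iff.mp hz
  exact (h g).eq.symm

theorem commute_of_normalClosure {a : G} (h : ∀ g k : G, Commute (cj g a) (cj k a)) :
    ∀ x ∈ normalClosure ({a} : Set G), ∀ y ∈ normalClosure ({a} : Set G), Commute x y := by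
  have h1 : normalClosure ({a} : Set G) ≤ centralizer ((normalClosure ({a} : Set G) : Subgroup G) : Set G) := by
    conv_lhs => rw [normalClosure]
    rw [closure_le]
    intro y hy
    obtain ⟨z, rfl, hz⟩ := Group.mem_conjugatesOfSet_iff.mp hy
    obtain ⟨g, rfl⟩ := isConj_iff.mp hz
    exact mem_centralizer_normalClosure (fun k => h g k)
  exact fun x hx y hy => (mem_centralizer_iff.mp (h1 hx) y hy).symm

theorem self_mem_normalClosure (a : G) : a ∈ normalClosure ({a} : Set G) :=
  subset_normalClosure (Set.mem_singleton a)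

variable [Finite G]

/-- A normal `p`-subgroup lies in a centraliser of index prime to `p`. -/
theorem le_cent_of_normal_pGroup {l : ℕ} [Fact l.Prime] {U : Subgroup G} [U.Normal] (hU : IsPGroup l U)
    {a : G} (ha : ¬ l ∣ ix a) : U ≤ cent a := by
  obtain ⟨S, hS⟩ := hU.exists_le_sylow
  obtain ⟨g, hg⟩ := exists_conj_le (A := cent a) ha S
  intro x hx
  have := hg (cj g⁻¹ x) (hS ((inferInstance : U.Normal).conj_mem x hx g⁻¹))
  simpa [cj, mul_assoc] using this

/-- Two primary elements of class size `n` for different primes have conjugate centralisers. -/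
theorem IT.exists_cent_eq (h : IT G n m) (hB : Bad G n m) {s t : ℕ} (hs : s.Prime) (ht : t.Prime)
    (hst : s ≠ t) {a z : G} (ha : IsL s a) (hz : IsL t z) (han : ix a = n) (hzn : ix z = n) :
    ∃ g : G, cent a = cent (cj g z) := by
  haveI : Fact s.Prime := ⟨hs⟩
  have hsm : s ∣ m := hB.dvd_m s a hs ha han
  have hsn : ¬ s ∣ n := fun hd => hs.ne_one (Nat.eq_one_of_dvd_coprimes h.cop hd hsm)
  obtain ⟨S, hSa, hS, hSc⟩ := isPGroup_le_sylow (l := s) (H := cent a)
  obtain ⟨x, hx, hxS⟩ := exists_conj_mem hSa hS hSc (self_mem_cent a) ha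
  have hxa : cj x a = a := by rw [cj, (mem_cent.mp hx).eq, mul_inv_cancel_right]
  rw [hxa] at hxS
  have hfull : Nat.card S = s ^ (Nat.card G).factorization s := by
    rw [hSc]
    congr 1
    have h1 := e_cent_add s a
    rw [han, Nat.factorization_eq_zero_of_not_dvd hsn, e, e, Subgroup.card_top] at h1
    omega
  obtain ⟨g, hg⟩ := exists_conj_le (A := cent z) (show ¬ s ∣ ix z by rw [hzn]; exact hsn)
    (Sylow.ofCard S hfull)
  refine ⟨g⁻¹, ?_⟩
  set z' := cj g⁻¹ z with hz'
  have hSz : S ≤ cent z' := fun y hy => by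
    have h1 : Commute (cj g y) z := mem_cent.mp (hg y hy)
    exact mem_cent.mpr (commute_inv_cj h1)
  have hcom : Commute a z' := mem_cent.mp (hSz hxS)
  have hco : (orderOf a).Coprime (orderOf z') := coprime_of_isL hs ht hst ha (isL_conj hz _)
  have hce : cent (a * z') = cent a ⊓ cent z' := centralizer_mul_eq hcom hco
  rcases h.of_n_dvd (han ▸ ix_dvd_mul_left hcom hco) with e' | e'
  · have h1 : cent (a * z') = cent a := eq_of_cent_le (hce ▸ inf_le_left) (e'.trans han.symm)
    exact eq_of_cent_le ((h1.symm.trans hce).le.trans inf_le_right)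
      (han.trans (((ix_cj _ z).trans hzn).symm))
  · exfalso
    have h1 := card_le_of_isPGroup hS (hce.ge.trans' (le_inf hSa hSz) : S ≤ cent (a * z'))
    rw [hfull] at h1
    have h2 := (Nat.pow_le_pow_iff_right hs.one_lt).mp h1
    have h3 := e_cent_add s (a * z')
    rw [e', e, e, Subgroup.card_top] at h3
    have h4 := hs.factorization_pos_of_dvd (Nat.mul_pos h.n_pos h.symm.n_pos).ne' (hsm.mul_left n)
    rw [e] at h2
    omega

theorem APair.idx (A : APair G n m p q u c) : (cent u ⊓ cent c).index = n * m :=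
  (A.it.index_inf A.hun A.hcm).1

/-- Elements of `D` of other primes are central. -/
theorem APair.central_D (A : APair G n m p q u c) {s : ℕ} (hs : s.Prime) (hsp : s ≠ p) (hsq : s ≠ q)
    {z : G} (hz : z ∈ cent u ⊓ cent c) (hzs : IsL s z) : z ∈ center G := by
  by_contra hzc
  rcases A.it.vals z with e' | e' | e' | e'
  · exact hzc (ix_eq_one_iff.mp e')
  · obtain ⟨g, hg⟩ := A.it.exists_cent_eq A.bad A.hp hs hsp.symm A.hu hzs A.hun e'
    refine A.apart g ?_
    have h1 : cj g c ∈ cent (cj g z) := mem_cent.mpr (commute_cj (mem_cent.mp hz.2).symm g)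
    rw [← hg] at h1
    exact (mem_cent.mp h1).symm
  · obtain ⟨g, hg⟩ := A.it.symm.exists_cent_eq A.bad.symm A.hq hs hsq.symm A.hc hzs A.hcm e'
    refine A.symm.apart g ?_
    have h1 : cj g u ∈ cent (cj g z) := mem_cent.mpr (commute_cj (mem_cent.mp hz.1).symm g)
    rw [← hg] at h1
    exact (mem_cent.mp h1).symm
  · have hle := A.it.cent_le_of_nm e' (mem_cent.mp hz.1) (coprime_of_isL hs A.hp hsp hzs A.hu)
    have h1 : c ∈ cent u := hle (mem_cent.mpr (mem_cent.mp hz.2).symm)
    exact A.apart 1 (by simpa [cj] using (mem_cent.mp h1).symm)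

/-- Noncentral `p`-elements of `D` have class size `n`. -/
theorem APair.ix_D (A : APair G n m p q u c) {z : G} (hz : z ∈ cent u ⊓ cent c) (hzp : IsL p z)
    (hzc : z ∉ center G) : ix z = n := by
  rcases A.bad.cases_p A.it A.hp A.pm hzp hzc with e' | e'
  · exact e'
  · exfalso
    have hle := A.it.cent_le_of_nm e' (mem_cent.mp hz.2) (coprime_of_isL A.hp A.hq A.ne hzp A.hc)
    have h1 : u ∈ cent c := hle (mem_cent.mpr (mem_cent.mp hz.1).symm)
    exact A.apart 1 (by simpa [cj] using mem_cent.mp h1)

theorem IT.center_lt (h : IT G n m) {H : Subgroup G} (hH : H.index = n * m) : ¬ H ≤ center G := by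
  intro hle
  obtain ⟨g, hg⟩ := h.exNM
  have h1 : Nat.card (cent g) ≤ Nat.card (center G) := by
    have e1 := (cent g).card_mul_index
    have e2 := H.card_mul_index
    rw [hH] at e2
    rw [show (cent g).index = n * m from hg] at e1
    have : Nat.card (cent g) = Nat.card H :=
      Nat.eq_of_mul_eq_mul_right (Nat.mul_pos h.n_pos h.symm.n_pos) (e1.trans e2.symm)
    rw [this]
    exact Subgroup.card_le_of_le hle
  have h2 : center G = cent g := Subgroup.eq_of_le_of_card_ge (center_le_cent g) h1
  exact h.notMem_center_nm hg (h2.ge (self_mem_cent g))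

/-- There is a noncentral `p`-element in `D`. -/
theorem APair.exists_D (A : APair G n m p q u c) :
    ∃ z ∈ cent u ⊓ cent c, IsL p z ∧ ix z = n := by
  haveI : Fact p.Prime := ⟨A.hp⟩
  haveI : Fact q.Prime := ⟨A.hq⟩
  suffices ∃ z ∈ cent u ⊓ cent c, IsL p z ∧ z ∉ center G by
    obtain ⟨z, hz, hzp, hzc⟩ := this
    exact ⟨z, hz, hzp, A.ix_D hz hzp hzc⟩
  by_contra hno
  push Not at hno
  obtain ⟨x, hx, hxc⟩ := SetLike.not_le_iff_exists.mp (A.it.center_lt A.idx)
  obtain ⟨l, hl, k, hxl, hxlc⟩ := exists_primary hxc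
  have hxD : x ^ k ∈ cent u ⊓ cent c := pow_mem hx k
  by_cases hlp : l = p
  · subst hlp; exact hxlc (hno _ hxD hxl)
  by_cases hlq : l = q
  swap
  · exact hxlc (A.central_D hl hlp hlq hxD hxl)
  subst hlq
  set a := x ^ k with ha
  have ham : ix a = m := A.symm.ix_D ⟨hxD.2, hxD.1⟩ hxl hxlc
  have hua : u ∈ cent u ⊓ cent a := ⟨self_mem_cent u, mem_cent.mpr (mem_cent.mp hxD.1).symm⟩
  have h1 : e p (center G) < e p (cent u ⊓ cent a) :=
    e_lt_of_isL (le_inf (center_le_cent u) (center_le_cent a)) hua A.hu (A.it.notMem_center_n A.hun)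
  have h2 : e p (cent u ⊓ cent c) ≤ e p (center G) := e_le_of_forall_isL hno
  have h3 : e p (cent u ⊓ cent a) = e p (cent u ⊓ cent c) :=
    e_eq_of_index (by rw [(A.it.index_inf A.hun ham).1, A.idx])
  omega

/-- All elements of other primes are central. -/
theorem APair.central_other (A : APair G n m p q u c) {s : ℕ} (hs : s.Prime) (hsp : s ≠ p)
    (hsq : s ≠ q) {w : G} (hws : IsL s w) : w ∈ center G := by
  haveI : Fact s.Prime := ⟨hs⟩
  by_contra hwc
  rcases A.it.vals w with e' | e' | e' | e'
  · exact hwc (ix_eq_one_iff.mp e')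
  · obtain ⟨g, hg⟩ := A.it.exists_cent_eq A.bad A.hp hs hsp.symm A.hu hws A.hun e'
    set w' := cj g w with hw'
    have A' : APair G n m s q w' c :=
      { it := A.it, bad := A.bad, hp := hs, hq := A.hq, hu := isL_conj hws g, hc := A.hc
        hun := (ix_cj g w).trans e', hcm := A.hcm
        apart := fun x hx => A.apart x (mem_cent.mp (hg ▸ mem_cent.mpr hx.symm : cj x c ∈ cent u)).symm }
    obtain ⟨z, hz, hzp, hzn⟩ := A.exists_D
    exact A.it.notMem_center_n hzn (A'.central_D A.hp hsp.symm A.ne (hg ▸ hz) hzp)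
  · obtain ⟨g, hg⟩ := A.it.symm.exists_cent_eq A.bad.symm A.hq hs hsq.symm A.hc hws A.hcm e'
    set w' := cj g w with hw'
    have A' : APair G m n s p w' u :=
      { it := A.it.symm, bad := A.bad.symm, hp := hs, hq := A.hp, hu := isL_conj hws g, hc := A.hu
        hun := (ix_cj g w).trans e', hcm := A.hun
        apart := fun x hx => A.symm.apart x (mem_cent.mp (hg ▸ mem_cent.mpr hx.symm : cj x u ∈ cent c)).symm }
    obtain ⟨z, hz, hzq, hzm⟩ := A.symm.exists_D
    exact A.it.symm.notMem_center_n hzm (A'.central_D A.hq hsq.symm A.ne.symm (hg ▸ hz) hzq)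
  · have h1 : e s (center G) < e s (cent w) :=
      e_lt_of_isL (center_le_cent w) (self_mem_cent w) hws hwc
    have h2 : e s (cent u ⊓ cent c) ≤ e s (center G) :=
      e_le_of_forall_isL fun y hy hys => A.central_D hs hsp hsq hy hys
    have h3 : e s (cent w) = e s (cent u ⊓ cent c) :=
      e_eq_of_index (by rw [show (cent w).index = n * m from e', A.idx])
    omega

theorem APair.isSolvable (A : APair G n m p q u c) : Group.IsSolvable G := by
  have hr : ∀ r : ℕ, r.Prime → r ∣ (center G).index → r = p ∨ r = q := by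
    intro r hr hd
    by_contra hne
    push Not at hne
    haveI : Fact r.Prime := ⟨hr⟩
    have h1 : e r (⊤ : Subgroup G) ≤ e r (center G) :=
      e_le_of_forall_isL fun y _ hy => A.central_other hr hne.1 hne.2 hy
    have h2 := e_add_index r (center G)
    have h3 := hr.factorization_pos_of_dvd index_ne_zero_of_finite hd
    omega
  set N := (center G).index with hN
  have hcard : Nat.card (G ⧸ center G) = p ^ N.factorization p * q ^ N.factorization q := by
    rw [← Subgroup.index_eq_card, ← hN]
    refine Nat.eq_of_factorization_eq' index_ne_zero_of_finite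
      (mul_ne_zero (pow_ne_zero _ A.hp.ne_zero) (pow_ne_zero _ A.hq.ne_zero)) ?_
    rw [Nat.factorization_mul (pow_ne_zero _ A.hp.ne_zero) (pow_ne_zero _ A.hq.ne_zero),
      A.hp.factorization_pow, A.hq.factorization_pow]
    ext r
    rw [Finsupp.add_apply, Finsupp.single_apply, Finsupp.single_apply]
    by_cases hrp : p = r
    · subst hrp; simp [A.ne.symm]
    by_cases hrq : q = r
    · subst hrq; simp [A.ne]
    rw [if_neg hrp, if_neg hrq, Nat.add_zero]
    by_cases hp' : r.Prime
    · exact Nat.factorization_eq_zero_of_not_dvd fun hd => (hr r hp' hd).elim (fun e => hrp e.symm) (fun e => hrq e.symm)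
    · exact Nat.factorization_eq_zero_of_not_prime _ hp'
  haveI := Characters.burnside_pa_qb A.hp A.hq hcard
  haveI : Group.IsSolvable (center G) := Group.isSolvable_of_comm fun a b =>
    Subtype.ext (mem_center_iff.mp b.2 a)
  exact Group.isSolvable_of_ker_le_range (center G).subtype (QuotientGroup.mk' (center G)) (by simp)

/-- `W = C(<u^G>)` contains all `q`-elements of `C(u)`. -/
theorem APair.mem_W (A : APair G n m p q u c) {y : G} (hy : y ∈ cent u) (hyq : IsL q y) :
    y ∈ centralizer ((normalClosure ({u} : Set G) : Subgroup G) : Set G) := by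
  haveI : Fact q.Prime := ⟨A.hq⟩
  set W := centralizer ((normalClosure ({u} : Set G) : Subgroup G) : Set G) with hW
  haveI : W.Normal := inferInstance
  have hWu : W ≤ cent u :=
    centralizer_le (Set.singleton_subset_iff.mpr (self_mem_normalClosure u))
  by_contra hyW
  have h1 : e q W < e q (cent u) := e_lt_of_isL hWu hy hyq hyW
  have h2 : e q (cent u ⊓ cent c) ≤ e q W := by
    refine e_le_of_forall_isL fun a ha haq => ?_
    by_cases hac : a ∈ center G
    · exact center_le_centralizer _ hac
    have ham : ix a = m := A.symm.ix_D ⟨ha.2, ha.1⟩ haq hac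
    exact mem_centralizer_normalClosure fun g => by
      have := A.it.commute_conj A.hun ham (mem_cent.mp ha.1).symm g 1
      exact (by simpa [cj] using this.symm)
  have h3 : e q (cent u) = e q (cent u ⊓ cent c) :=
    A.it.e_eq A.hq A.qn (Or.inl A.hun) (Or.inr A.idx)
  omega

theorem APair.e_W (A : APair G n m p q u c) :
    e q (cent u) ≤ e q (centralizer ((normalClosure ({u} : Set G) : Subgroup G) : Set G)) := by
  haveI : Fact q.Prime := ⟨A.hq⟩
  exact e_le_of_forall_isL fun y hy hyq => A.mem_W hy hyq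

/-- If `<u^G>` is abelian there is a contradiction. -/
theorem APair.false_of_comm (A : APair G n m p q u c)
    (hab : ∀ x ∈ normalClosure ({u} : Set G), ∀ y ∈ normalClosure ({u} : Set G), Commute x y) :
    False := by
  haveI : Fact p.Prime := ⟨A.hp⟩
  haveI : Fact q.Prime := ⟨A.hq⟩
  set U := normalClosure ({u} : Set G) with hUdef
  haveI : U.Normal := normalClosure_normal
  set W := centralizer (U : Set G) with hWdef
  haveI : W.Normal := inferInstance
  have hcW : c ∉ W := fun h => A.apart 1
    (by
      have h1 : Commute u c := (mem_centralizer_iff.mp h) u (self_mem_normalClosure u)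
      simpa [cj] using h1)
  have hqm : ¬ q ∣ m := fun hd => A.hq.ne_one (Nat.eq_one_of_dvd_coprimes A.it.cop A.qn hd)
  have hpn : ¬ p ∣ n := fun hd => A.hp.ne_one (Nat.eq_one_of_dvd_coprimes A.it.cop hd A.pm)
  have hUp : IsPGroup p U := by
    have key : ∀ x ∈ U, (∀ y ∈ U, Commute x y) ∧ ∃ k, x ^ p ^ k = 1 := by
      intro x hx
      refine ⟨hab x hx, ?_⟩
      have hx' : x ∈ closure (Group.conjugatesOfSet ({u} : Set G)) := hx
      refine closure_induction (p := fun y _ => ∃ k, y ^ p ^ k = 1) ?_ ⟨0, by simp⟩ ?_ ?_ hx'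
      · intro y hy
        obtain ⟨z, rfl, hz⟩ := Group.mem_conjugatesOfSet_iff.mp hy
        obtain ⟨g, rfl⟩ := isConj_iff.mp hz
        obtain ⟨k, hk⟩ := isL_conj A.hu g
        exact ⟨k, by rw [← hk]; exact pow_orderOf_eq_one _⟩
      · intro y z hy hz ⟨i, hi⟩ ⟨j, hj⟩
        refine ⟨i + j, ?_⟩
        rw [(hab y hy z hz).mul_pow, pow_add, pow_mul, hi, one_pow, one_mul, Nat.mul_comm, pow_mul,
          hj, one_pow]
      · intro y _ ⟨i, hi⟩
        exact ⟨i, by rw [inv_pow, hi, inv_one]⟩
    rintro ⟨x, hx⟩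
    obtain ⟨-, k, hk⟩ := key x hx
    exact ⟨k, Subtype.ext (by simpa using hk)⟩
  -- elements of class size `n` centralise `U`
  have hnU : ∀ z : G, ix z = n → ∀ x ∈ U, Commute z x := fun z hz x hx =>
    (mem_cent.mp (le_cent_of_normal_pGroup hUp (by rw [hz]; exact hpn) hx)).symm
  have hWu : W ≤ cent u :=
    centralizer_le (Set.singleton_subset_iff.mpr (self_mem_normalClosure u))
  have hstrict : ∀ x : G, IsL p x → x ∈ U → Commute c x → x ∈ center G := by
    intro x hxp hxU hcx
    by_contra hxc
    have h1 : W ≤ cent x := fun y hy => mem_cent.mpr ((mem_centralizer_iff.mp hy) x hxU).symm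
    have h2 : e q W < e q (cent x) := e_lt_of_isL h1 (mem_cent.mpr hcx) A.hc hcW
    have h3 : e q (cent x) = e q (cent u) :=
      A.it.e_eq A.hq A.qn (A.bad.cases_p A.it A.hp A.pm hxp hxc) (Or.inl A.hun)
    have h4 := A.e_W
    rw [← hUdef, ← hWdef] at h4
    omega
  obtain ⟨v, hvD, hvq, hvm⟩ := A.symm.exists_D
  have hvK : v ∈ cent u := hvD.2
  have hvW : ∀ x ∈ U, Commute x v := fun x hx => (mem_centralizer_iff.mp (A.mem_W hvK hvq)) x hx
  -- the noncentral `p`-elements of `D` commute with `v`
  have hzv : ∀ z ∈ cent u ⊓ cent c, IsL p z → Commute z v := by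
    intro z hz hzp
    by_cases hzc : z ∈ center G
    · exact (mem_center_iff.mp hzc v).symm
    have hzn := A.ix_D hz hzp hzc
    have huz : Commute u z := (hnU z hzn u (self_mem_normalClosure u)).symm
    have hcZ : ∀ g : G, Commute c (cj g z) := fun g => by
      have := A.it.commute_conj hzn A.hcm (mem_cent.mp hz.2) g 1
      simpa [cj] using this.symm
    have hinter : ∀ x : G, x ∈ U → x ∈ normalClosure ({z} : Set G) → x ∈ center G := fun x hx hx' =>
      hstrict x (isL_of_mem hUp hx) hx
        ((mem_centralizer_iff.mp (mem_centralizer_normalClosure hcZ)) x hx').symm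
    have hw : IsL p (u * z) := by
      obtain ⟨i, hi⟩ := A.hu
      obtain ⟨j, hj⟩ := hzp
      obtain ⟨k, -, hk⟩ := (Nat.dvd_prime_pow A.hp).mp
        (show orderOf (u * z) ∣ p ^ (i + j) by rw [pow_add, ← hi, ← hj]; exact huz.orderOf_mul_dvd_mul_orderOf)
      exact ⟨k, hk⟩
    have hwc : u * z ∉ center G := fun hcen => A.apart 1 (by
      have h1 : Commute c (u * z) := mem_center_iff.mp hcen c
      have h2 : Commute c z := (mem_cent.mp hz.2).symm
      have := h1.mul_right h2.inv_right
      rw [mul_inv_cancel_right] at this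
      simpa [cj] using this.symm)
    have hfix : ∀ f ∈ cent (u * z), IsL q f → Commute f u ∧ Commute f z := by
      intro f hf hfq
      have hf' : cj f u * cj f z = u * z := by
        have : cj f (u * z) = u * z := by rw [cj, (mem_cent.mp hf).eq, mul_inv_cancel_right]
        rw [← this]; simp [cj, mul_assoc]
      set t := u⁻¹ * cj f u with ht
      have htU : t ∈ U := mul_mem (inv_mem (self_mem_normalClosure u))
        ((inferInstance : U.Normal).conj_mem u (self_mem_normalClosure u) f)
      have htZ : t ∈ normalClosure ({z} : Set G) := by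
        have : t = z * (cj f z)⁻¹ := by
          rw [ht, eq_mul_inv_iff_mul_eq, mul_assoc, hf', inv_mul_cancel_left]
        rw [this]
        exact mul_mem (self_mem_normalClosure z)
          (inv_mem (normalClosure_normal.conj_mem z (self_mem_normalClosure z) f))
      have htc := hinter t htU htZ
      have hfu : cj f u = u * t := (mul_inv_cancel_left _ _).symm
      have hk : ∀ k : ℕ, cj (f ^ k) u = u * t ^ k := by
        intro k
        induction k with
        | zero => simp [cj]
        | succ k hk =>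
          rw [pow_succ', ← cj_cj, hk]
          calc cj f (u * t ^ k) = cj f u * (f * t ^ k * f⁻¹) := by simp only [cj]; group
            _ = cj f u * t ^ k := by rw [mem_center_iff.mp (pow_mem htc k) f, mul_inv_cancel_right]
            _ = u * t ^ (k + 1) := by rw [hfu, mul_assoc, ← pow_succ']
      have ht1 : t ^ orderOf f = 1 := by
        have := hk (orderOf f)
        rw [pow_orderOf_eq_one] at this
        simpa [cj] using this
      obtain ⟨i, hi⟩ := isL_of_mem hUp htU
      obtain ⟨j, hj⟩ := hfq
      have ht0 : t = 1 := orderOf_eq_one_iff.mp (Nat.eq_one_of_dvd_coprimes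
        (((Nat.coprime_primes A.hp A.hq).mpr A.ne).pow i j) (hi ▸ dvd_rfl)
        (hj ▸ orderOf_dvd_of_pow_eq_one ht1))
      rw [ht0, mul_one, cj, mul_inv_eq_iff_eq_mul] at hfu
      refine ⟨hfu, ?_⟩
      have h1 : Commute f (u⁻¹ * (u * z)) := (show Commute f u from hfu).inv_right.mul_right (mem_cent.mp hf)
      rwa [inv_mul_cancel_left] at h1
    obtain ⟨S, hSw, hS, hSc⟩ := isPGroup_le_sylow (l := q) (H := cent (u * z))
    have hSK : S ≤ cent u := fun f hf => mem_cent.mpr (hfix f (hSw hf) (isL_of_mem hS hf)).1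
    have hScard : Nat.card S = q ^ e q (cent u) := by
      rw [hSc]; congr 1
      exact A.it.e_eq A.hq A.qn (A.bad.cases_p A.it A.hp A.pm hw hwc) (Or.inl A.hun)
    obtain ⟨h, -, hh⟩ := exists_conj_mem hSK hS hScard hvK hvq
    have h1 : Commute z (cj h v) := (hfix _ (hSw hh) (isL_conj hvq h)).2.symm
    have h2 := A.it.commute_conj hzn ((ix_cj h v).trans hvm) h1 1 h⁻¹
    rw [cj_inv_cj] at h2
    simpa [cj] using h2
  obtain ⟨PD, hPD, hPDp, hPDc⟩ := isPGroup_le_sylow (l := p) (H := cent u ⊓ cent c)
  have hsup : PD ⊔ U ≤ cent v := sup_le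
    (fun y hy => mem_cent.mpr (hzv y (hPD hy) (isL_of_mem hPDp hy)))
    (fun x hx => mem_cent.mpr (hvW x hx))
  have huPD : u ∉ PD := fun h => A.apart 1 (by simpa [cj] using mem_cent.mp (hPD h).2)
  have hlt : Nat.card PD < Nat.card (PD ⊔ U : Subgroup G) := by
    refine lt_of_le_of_ne (Subgroup.card_le_of_le le_sup_left) fun e' => huPD ?_
    rw [Subgroup.eq_of_le_of_card_ge le_sup_left e'.ge]
    exact mem_sup_right (self_mem_normalClosure u)
  have h5 := card_le_of_isPGroup (IsPGroup.to_sup_of_normal_right hPDp hUp) hsup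
  rw [hPDc] at hlt
  have h6 : e p (cent v) = e p (cent u ⊓ cent c) := by
    refine e_eq_of_index ?_
    rw [show (cent v).index = m from hvm, A.idx, Nat.mul_comm n m,
      factorization_mul_of_dvd A.it.cop.symm A.hp A.pm]
  rw [h6] at h5
  omega

/-- If `<u^G>` is nonabelian the roles can be exchanged. -/
theorem APair.false_apart (A : APair G n m p q u c) : False := by
  haveI : Fact p.Prime := ⟨A.hp⟩
  haveI : Fact q.Prime := ⟨A.hq⟩
  haveI := A.isSolvable
  by_cases hab : ∀ x ∈ normalClosure ({u} : Set G), ∀ y ∈ normalClosure ({u} : Set G), Commute x y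
  · exact A.false_of_comm hab
  set U := normalClosure ({u} : Set G) with hUdef
  haveI : U.Normal := normalClosure_normal
  set W := centralizer (U : Set G) with hWdef
  haveI : W.Normal := inferInstance
  have hUW : ¬ U ≤ W := fun h => hab fun x hx y hy => (mem_centralizer_iff.mp (h hx) y hy).symm
  classical
  have hex : ∃ i, U ⊓ derivedSeries G i ≤ W := by
    obtain ⟨N, hN⟩ := (Group.isSolvable_def G).mp inferInstance
    exact ⟨N, by rw [hN]; simp⟩
  obtain ⟨i, hi⟩ : ∃ i, Nat.find hex = i + 1 := by
    refine Nat.exists_eq_succ_of_ne_zero fun h0 => hUW ?_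
    have := Nat.find_spec hex
    rwa [h0, derivedSeries_zero, inf_top_eq] at this
  set R := U ⊓ derivedSeries G i with hR
  haveI : R.Normal := by
    haveI := derivedSeries_normal G i
    exact Subgroup.normal_inf_normal _ _
  have hRW : ¬ R ≤ W := fun h => absurd (Nat.find_min' hex h) (by omega)
  have hRR : ⁅R, R⁆ ≤ W := by
    refine le_trans (le_inf ((commutator_mono inf_le_left inf_le_left).trans (commutator_le_left U U)) ?_)
      (hi ▸ Nat.find_spec hex)
    rw [derivedSeries_succ]
    exact commutator_mono inf_le_right inf_le_right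
  have hRnil : Group.IsNilpotent R := by
    refine (isNilpotent_iff_lowerCentralSeries R).mpr ⟨2, ?_⟩
    rw [Subgroup.lowerCentralSeries_succ, Subgroup.lowerCentralSeries_succ, Subgroup.lowerCentralSeries_zero,
      commutator_eq_bot_iff_le_centralizer]
    exact hRR.trans (centralizer_le (SetLike.coe_subset_coe.mpr inf_le_left))
  obtain ⟨r, hr, x, hxR, hxr, hxW⟩ : ∃ r : ℕ, r.Prime ∧ ∃ x ∈ R, IsL r x ∧ x ∉ W := by
    by_contra hc
    push Not at hc
    refine hRW (CN.le_of_forall_isPGroup fun r hr x hx hxp => ?_)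
    haveI : Fact r.Prime := ⟨hr⟩
    exact hc r hr x hx (isL_of_mem hxp (mem_zpowers x))
  haveI : Fact r.Prime := ⟨hr⟩
  obtain ⟨S⟩ : Nonempty (Sylow r R) := inferInstance
  haveI hSn : (S : Subgroup R).Normal :=
    Sylow.normal_of_normalizerCondition Group.normalizerCondition_of_isNilpotent S
  haveI : (S : Subgroup R).Characteristic := S.characteristic_of_normal hSn
  set Rr := (S : Subgroup R).map R.subtype with hRr
  haveI : Rr.Normal := by rw [hRr]; infer_instance
  have hRrp : IsPGroup r Rr := S.2.map _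
  have hxRr : x ∈ Rr := by
    obtain ⟨k, hk⟩ := hxr
    obtain ⟨S', hS'⟩ := GStructB.PElements.exists_mem_sylow (x := (⟨x, hxR⟩ : R)) (p := r) (k := k)
      (by rwa [Subgroup.orderOf_mk])
    haveI : Subsingleton (Sylow r R) := by
      haveI := S.unique_of_normal hSn
      infer_instance
    rw [Subsingleton.elim S' S] at hS'
    exact ⟨_, hS', rfl⟩
  by_cases hrp : r = p
  · subst hrp
    have hpn : ¬ r ∣ n := fun hd => A.hp.ne_one (Nat.eq_one_of_dvd_coprimes A.it.cop hd A.pm)
    refine hxW (mem_centralizer_normalClosure fun g => ?_)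
    exact mem_cent.mp (le_cent_of_normal_pGroup hRrp
      (show ¬ r ∣ ix (cj g u) by rw [ix_cj, A.hun]; exact hpn) hxRr)
  by_cases hrq : r = q
  swap
  · exact hxW (center_le_centralizer _ (A.central_other hr hrp hrq hxr))
  subst hrq
  have hxc : x ∉ center G := fun h => hxW (center_le_centralizer _ h)
  have hxm : ix x = m := by
    rcases A.bad.symm.cases_p A.it.symm A.hq A.qn hxr hxc with e' | e'
    · exact e'
    · exfalso
      have h1 : W ≤ cent x := fun y hy =>
        mem_cent.mpr ((mem_centralizer_iff.mp hy) x hxR.1).symm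
      have h2 : e r W < e r (cent x) := e_lt_of_isL h1 (self_mem_cent x) hxr hxW
      have h3 : e r (cent x) = e r (cent u) :=
        A.it.e_eq A.hq A.qn (Or.inr (e'.trans (Nat.mul_comm _ _))) (Or.inl A.hun)
      have h4 := A.e_W
      rw [← hUdef, ← hWdef] at h4
      omega
  have A' : APair G n m p r u x :=
    { it := A.it, bad := A.bad, hp := A.hp, hq := A.hq, hu := A.hu, hc := hxr
      hun := A.hun, hcm := hxm
      apart := fun g hg => hxW (mem_centralizer_normalClosure fun k => by
        have := A.it.commute_conj A.hun ((ix_cj g x).trans hxm) hg k g⁻¹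
        rw [cj_inv_cj] at this
        exact this.symm) }
  refine A'.symm.false_of_comm (commute_of_normalClosure fun g k => ?_)
  have hqm : ¬ r ∣ m := fun hd => A.hq.ne_one (Nat.eq_one_of_dvd_coprimes A.it.cop A.qn hd)
  exact mem_cent.mp (le_cent_of_normal_pGroup hRrp (show ¬ r ∣ ix (cj k x) by rw [ix_cj, hxm]; exact hqm)
    ((inferInstance : Rr.Normal).conj_mem x hxRr g))

end Cfsg.Agent.GStructClassType
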