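import Cfsg.Agent.GStructClassType.Basic
import Cfsg.Agent.GStructB.TwoSizesApps
import Cfsg.Agent.S4035
import Cfsg.Agent.S4135
import Cfsg.Agent.Lib.Cores.Fitting

/-!
Class sizes `1, n, m, n m`: the case of a good pair gives nilpotency.
-/

set_option autoImplicit false
set_option linter.style.haveILetI false
set_option linter.unusedSectionVars false

namespace Cfsg.Agent.GStructClassType

open Subgroup
open Cfsg.Agent.GStructB.TwoSizes (cent mem_cent self_mem_cent IsL isL_conj isL_of_mem
  coprime_of_isL exists_primary)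
open Cfsg.Agent.GroupStructure3.ClassGraph (centralizer_mul_eq index_inf_of_coprime
  exists_mul_of_coprime exists_conj_le)
open scoped commutatorElement

variable {G : Type*} [Group G]

theorem cent_subtype [Finite G] {H : Subgroup G} (g : H) :
    centralizer ({g} : Set H) = (cent (g : G)).subgroupOf H := by
  ext x
  rw [mem_centralizer_singleton_iff, mem_subgroupOf, mem_cent]
  exact ⟨fun h => congrArg Subtype.val h, fun h => Subtype.ext h⟩

theorem ncard_carrier [Finite G] (y : G) :
    (ConjClasses.mk y).carrier.ncard = (centralizer ({y} : Set G)).index := by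
  rw [← Nat.card_coe_set_eq, Subgroup.centralizer_eq_comap_stabilizer]
  symm
  refine (Subgroup.index_comap_of_surjective _ (MulEquiv.surjective _)).trans ?_
  rw [Subgroup.index, ← Nat.card_congr (MulAction.orbitEquivQuotientStabilizer (ConjAct G) y),
    ConjAct.orbit_eq_carrier_conjClasses]

/-- A `b` centralising `A` and every fixed point of `A` in the `p`-group `U` centralises `U`. -/
theorem commute_of_axb [Finite G] {p : ℕ} [hp : Fact p.Prime] {U P A : Subgroup G} [hU : U.Normal]
    (hP : IsPGroup p P) (hUP : U ≤ P) (hAP : A ≤ P) {b : G} (hb : (orderOf b).Coprime p)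
    (hA : ∀ y ∈ A, Commute b y) (hC : ∀ x ∈ U, (∀ y ∈ A, Commute x y) → Commute x b) :
    ∀ x ∈ U, Commute x b := by
  obtain ⟨N, hN⟩ := (isNilpotent_iff_lowerCentralSeries P).mp hP.isNilpotent
  suffices H : ∀ d i, i + d = N → ∀ x ∈ U, x ∈ P.lowerCentralSeries i → Commute x b by
    intro x hx
    exact H N 0 (Nat.zero_add N) x hx (by rw [Subgroup.lowerCentralSeries_zero]; exact hUP hx)
  intro d
  induction d with
  | zero =>
    intro i hi x _ hxi
    rw [show i = N by omega, hN, mem_bot] at hxi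
    rw [hxi]
    exact Commute.one_left b
  | succ d ih =>
    intro i hi x hx hxi
    set t := x⁻¹ * cj b x with ht
    have htU : t ∈ U := mul_mem (inv_mem hx) (hU.conj_mem x hx b)
    have htA : ∀ y ∈ A, Commute t y := by
      intro y hy
      have h1 : ⁅x, y⁆ ∈ U := by
        rw [commutatorElement_def, show x * y * x⁻¹ * y⁻¹ = x * (y * x⁻¹ * y⁻¹) by group]
        exact mul_mem hx (hU.conj_mem _ (inv_mem hx) y)
      have h2 : ⁅x, y⁆ ∈ P.lowerCentralSeries (i + 1) := by
        rw [Subgroup.lowerCentralSeries_succ]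
        exact commutator_mem_commutator hxi (hAP hy)
      have h3 : Commute ⁅x, y⁆ b := ih (i + 1) (by omega) _ h1 h2
      have h4 : ⁅cj b x, y⁆ = ⁅x, y⁆ := by
        have e : cj b ⁅x, y⁆ = ⁅cj b x, cj b y⁆ := map_commutatorElement (MulAut.conj b).toMonoidHom x y
        rw [show cj b ⁅x, y⁆ = ⁅x, y⁆ by rw [cj, h3.symm.eq, mul_inv_cancel_right],
          show cj b y = y by rw [cj, (hA y hy).eq, mul_inv_cancel_right]] at e
        exact e.symm
      rw [commutatorElement_def, commutatorElement_def, mul_left_inj] at h4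
      show t * y = y * t
      calc t * y = x⁻¹ * (cj b x * y * (cj b x)⁻¹) * cj b x := by rw [ht]; group
        _ = x⁻¹ * (x * y * x⁻¹) * cj b x := by rw [h4]
        _ = y * t := by rw [ht]; group
    have htb : Commute t b := hC t htU htA
    have hk : ∀ k : ℕ, cj (b ^ k) x = x * t ^ k := by
      intro k
      induction k with
      | zero => simp [cj]
      | succ k hk =>
        rw [pow_succ', ← cj_cj, hk]
        calc cj b (x * t ^ k) = cj b x * (b * t ^ k * b⁻¹) := by simp only [cj]; group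
          _ = cj b x * t ^ k := by rw [← (htb.pow_left k).eq, mul_inv_cancel_right]
          _ = x * t ^ (k + 1) := by rw [show cj b x = x * t from (mul_inv_cancel_left x (cj b x)).symm, mul_assoc, ← pow_succ']
    have ht1 : t ^ orderOf b = 1 := by
      have := hk (orderOf b)
      rw [pow_orderOf_eq_one] at this
      simpa [cj] using this
    obtain ⟨j, hj⟩ := isL_of_mem hP (hUP htU)
    have : t = 1 := orderOf_eq_one_iff.mp (Nat.eq_one_of_dvd_coprimes
      ((hb.symm).pow_left j) (hj ▸ dvd_rfl) (orderOf_dvd_of_pow_eq_one ht1))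
    rw [ht, inv_mul_eq_one, cj, eq_mul_inv_iff_mul_eq] at this
    exact this

variable [Finite G] {n m : ℕ}

/-- In the good case the centraliser of an element of class size `m` is nilpotent. -/
theorem IT.cent_nilpotent (h : IT G n m) {v : G} {q : ℕ} (hq : q.Prime) (hv : IsL q v)
    (hvm : ix v = m) (hqn : ¬ q ∣ n) : Group.IsNilpotent (cent v) := by
  haveI : Fact q.Prime := ⟨hq⟩
  have hval : ∀ g ∈ cent v, (orderOf g).Coprime q →
      (cent g).relIndex (cent v) = 1 ∨ (cent g).relIndex (cent v) = n := by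
    intro g hg hgq
    obtain ⟨k, hk⟩ := hv
    have hcop : (orderOf g).Coprime (orderOf v) := hk ▸ hgq.pow_right k
    have e : ix (g * v) = (cent g).relIndex (cent v) * m := by
      rw [ix, show cent (g * v) = cent g ⊓ cent v from centralizer_mul_eq (mem_cent.mp hg) hcop,
        ← inf_relIndex_right, ← hvm]
      exact (relIndex_mul_index inf_le_right).symm
    have hm0 : 0 < m := h.symm.n_pos
    rcases h.symm.of_n_dvd (e ▸ dvd_mul_left m _) with e' | e'
    · exact Or.inl (Nat.eq_of_mul_eq_mul_right hm0 ((e.symm.trans e').trans (one_mul m).symm))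
    · exact Or.inr (Nat.eq_of_mul_eq_mul_right hm0 ((e.symm.trans e').trans (Nat.mul_comm m n)))
  have hidx : ∀ g : cent v, (centralizer ({g} : Set (cent v))).index = (cent (g : G)).relIndex (cent v) :=
    fun g => by rw [cent_subtype]; rfl
  obtain ⟨Q⟩ : Nonempty (Sylow q (cent v)) := inferInstance
  have h35 := S4035.result (G := cent v) (p := q) (fun g hg hd => by
    rw [ncard_carrier, hidx] at hd
    rw [← Subgroup.orderOf_coe] at hg
    rcases hval g g.2 hg with e | e <;> rw [e] at hd
    · exact hq.ne_one (Nat.dvd_one.mp hd)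
    · exact hqn hd) Q
  obtain ⟨hQn, H, hHn, hqH, -, htop⟩ := h35
  have hHnil : Group.IsNilpotent H := by
    have h2 : ∀ x ∈ H, (centralizer ({x} : Set (cent v))).index = 1 ∨
        (centralizer ({x} : Set (cent v))).index = n := by
      intro x hx
      rw [hidx]
      refine hval x x.2 ?_
      rw [Subgroup.orderOf_coe]
      exact ((hq.coprime_iff_not_dvd.mpr hqH).symm).coprime_dvd_left (Subgroup.orderOf_dvd_natCard H hx)
    by_cases hHc : H ≤ center (cent v)
    · refine (Subgroup.nilpotent_iff_lowerCentralSeries (G := H)).mpr ⟨1, ?_⟩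
      rw [Subgroup.top_lowerCentralSeries_one, _root_.commutator_def, eq_bot_iff, commutator_le]
      intro a _ b _
      rw [mem_bot, commutatorElement_eq_one_iff_mul_comm]
      exact Subtype.ext ((mem_center_iff.mp (hHc b.2)) a)
    obtain ⟨x, hx, hxc⟩ := SetLike.not_le_iff_exists.mp hHc
    obtain ⟨r, hr, k, hxr, hxrc⟩ := exists_primary hxc
    haveI : Fact r.Prime := ⟨hr⟩
    obtain ⟨j, hj⟩ := hxr
    obtain ⟨R, hR⟩ := GStructB.PElements.exists_mem_sylow hj
    have hrq : r ≠ q := by
      rintro rfl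
      have hj0 : j ≠ 0 := by
        rintro rfl
        rw [pow_zero, orderOf_eq_one_iff] at hj
        exact hxrc (hj ▸ one_mem _)
      exact hqH ((dvd_pow_self r hj0).trans (hj ▸ Subgroup.orderOf_dvd_natCard H (pow_mem hx k)))
    have hsur : (Q : Subgroup (cent v)).map (QuotientGroup.mk' H) = ⊤ := by
      rw [← Subgroup.map_top_of_surjective _ (QuotientGroup.mk'_surjective H), ← htop, Subgroup.map_sup]
      simp
    have hquot : IsPGroup q (⊤ : Subgroup (cent v ⧸ H)) := hsur ▸ Q.2.map _
    have hRH : (R : Subgroup (cent v)) ≤ H := by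
      intro y hy
      have h1 : IsL r y := isL_of_mem R.2 hy
      have h3 : IsL q (QuotientGroup.mk' H y) := isL_of_mem hquot (mem_top _)
      obtain ⟨i, hi⟩ := h1
      obtain ⟨l, hl⟩ := h3
      have h4 : r ^ i = orderOf y := hi.symm
      have : orderOf (QuotientGroup.mk' H y) = 1 := Nat.eq_one_of_dvd_coprimes
        (((Nat.coprime_primes hr hq).mpr hrq).pow i l) (hi ▸ orderOf_map_dvd _ y) (hl ▸ dvd_rfl)
      rwa [orderOf_eq_one_iff, QuotientGroup.mk'_apply, QuotientGroup.eq_one_iff] at this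
    exact S4135.result r R (fun hc => hxrc (hc hR)) H hRH n h2
  refine (Cores.fittingSubgroup_eq_top_iff).mp (eq_top_iff.mpr ?_)
  rw [← htop]
  haveI := hQn
  haveI := hHn
  exact sup_le (Cores.le_fittingSubgroup Q.2.isNilpotent) (Cores.le_fittingSubgroup hHnil)

/-- In a nilpotent centraliser a class size of a primary element is a prime power. -/
theorem dvd_relIndex_imp {C : Subgroup G} (hC : Group.IsNilpotent C) {u : G} {p t : ℕ}
    (hp : p.Prime) (ht : t.Prime) (hu : IsL p u) (huC : u ∈ C)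
    (hd : t ∣ (cent u).relIndex C) : t = p := by
  by_contra hne
  haveI : Fact t.Prime := ⟨ht⟩
  obtain ⟨S, hSC, hS, hSc⟩ := isPGroup_le_sylow (l := t) (H := C)
  have hSu : S ≤ cent u ⊓ C := le_inf (fun y hy => mem_cent.mpr
    (CN.commute_of_coprime hC (hSC hy) huC (coprime_of_isL ht hp hne (isL_of_mem hS hy) hu))) hSC
  have h1 := card_le_of_isPGroup hS hSu
  rw [hSc] at h1
  have h2 := (Nat.pow_le_pow_iff_right ht.one_lt).mp h1
  have h3 := e_add_relIndex (inf_le_right : cent u ⊓ C ≤ C) t
  rw [inf_relIndex_right] at h3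
  have h5 : (cent u).relIndex C ≠ 0 := ((cent u).subgroupOf C).index_ne_zero_of_finite
  have h4 := ht.factorization_pos_of_dvd h5 hd
  omega

/-- In the good case `n` is a power of the prime of any primary element of class size `n`. -/
theorem IT.n_eq_pow (h : IT G n m) {v : G} {q : ℕ} (hq : q.Prime) (hv : IsL q v) (hvm : ix v = m)
    (hqn : ¬ q ∣ n) {u : G} {p : ℕ} (hp : p.Prime) (hu : IsL p u) (hun : ix u = n) :
    ∃ a, n = p ^ a := by
  haveI : Fact q.Prime := ⟨hq⟩
  obtain ⟨c, hc⟩ := exists_conj_commute (a := u) (hun ▸ hqn) hv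
  have hm' : ix (cj c v) = m := (ix_cj c v).trans hvm
  have hnil := h.cent_nilpotent hq (isL_conj hv c) hm' hqn
  have hrel : (cent u).relIndex (cent (cj c v)) = n := (h.index_inf hun hm').2
  refine ⟨_, Nat.eq_prime_pow_of_unique_prime_dvd h.n_pos.ne' fun {d} hd hdn => ?_⟩
  exact dvd_relIndex_imp hnil hp hd hu (mem_cent.mpr hc.symm) (hrel.symm ▸ hdn)

/-- The Sylow subgroups for a prime different from `p` lying in `C(u)` are normal. -/
theorem IT.sylow_normal (h : IT G n m) {u : G} {p q a : ℕ} (hp : p.Prime) (hq : q.Prime)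
    (hpq : q ≠ p) (hu : IsL p u) (hun : ix u = n) (hna : n = p ^ a)
    (hnil : Group.IsNilpotent (cent u)) (Q₀ : Sylow q G) : (Q₀ : Subgroup G).Normal := by
  haveI : Fact p.Prime := ⟨hp⟩
  haveI : Fact q.Prime := ⟨hq⟩
  have hqu : ¬ q ∣ ix u := by
    rw [hun, hna]
    exact fun hd => hpq ((Nat.prime_dvd_prime_iff_eq hq hp).mp (hq.dvd_of_dvd_pow hd))
  obtain ⟨c, hc⟩ := exists_conj_le (A := cent u) hqu Q₀
  obtain ⟨k, hk⟩ := hu
  obtain ⟨P, huP⟩ := GStructB.PElements.exists_mem_sylow hk
  have hu' : IsL p u := ⟨k, hk⟩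
  set U := normalClosure ({u} : Set G) with hU
  have hUP : U ≤ (P : Subgroup G) := by
    rw [hU, normalClosure, closure_le]
    intro x hx
    obtain ⟨z, rfl, hz⟩ := Group.mem_conjugatesOfSet_iff.mp hx
    obtain ⟨g, rfl⟩ := isConj_iff.mp hz
    obtain ⟨y, hy, w, hw, rfl⟩ := exists_mem_sylow_mul (hun.trans hna) P g
    show cj (y * w) z ∈ (P : Subgroup G)
    rw [← cj_cj, show cj w z = z by rw [cj, (mem_cent.mp hw).eq, mul_inv_cancel_right]]
    exact mul_mem (mul_mem hy huP) (inv_mem hy)
  set W := centralizer (U : Set G) with hW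
  haveI : W.Normal := inferInstance
  have hWu : W ≤ cent u := centralizer_le (Set.singleton_subset_iff.mpr
    (subset_normalClosure (Set.mem_singleton u)))
  set Q : Sylow q G := c • Q₀ with hQ
  have hQu : (Q : Subgroup G) ≤ cent u := by
    intro x hx
    rw [hQ, Sylow.coe_subgroup_smul, GStructB.PElements.mem_conj_smul] at hx
    have := hc _ hx
    simpa [mul_assoc] using this
  have hQW : (Q : Subgroup G) ≤ W := by
    intro b hb x hx
    have hbq : IsL q b := isL_of_mem Q.2 hb
    refine (commute_of_axb (A := (P : Subgroup G) ⊓ cent u) P.2 hUP inf_le_left ?_ ?_ ?_ x hx).eq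
    · obtain ⟨j, hj⟩ := hbq
      exact hj ▸ ((Nat.coprime_primes hq hp).mpr hpq).pow_left j
    · intro y hy
      exact CN.commute_of_coprime hnil (hQu hb) hy.2
        (coprime_of_isL hq hp hpq hbq (isL_of_mem P.2 hy.1))
    · intro z hz hzA
      exact CN.commute_of_coprime hnil (mem_cent.mpr (hzA u ⟨huP, self_mem_cent u⟩)) (hQu hb)
        (coprime_of_isL hp hq hpq.symm (isL_of_mem P.2 (hUP hz)) hbq)
  haveI hWnil : Group.IsNilpotent W := Cores.isNilpotent_to_le hWu hnil
  haveI hQWn : ((Q.subtype hQW : Sylow q W) : Subgroup W).Normal :=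
    Sylow.normal_of_normalizerCondition Group.normalizerCondition_of_isNilpotent _
  have hWQ : ∀ y ∈ W, ∀ z ∈ (Q : Subgroup G), cj y z ∈ (Q : Subgroup G) := by
    intro y hy z hz
    have h1 : (⟨y, hy⟩ : W) * ⟨z, hQW hz⟩ * (⟨y, hy⟩ : W)⁻¹ ∈ ((Q.subtype hQW : Sylow q W) : Subgroup W) :=
      hQWn.conj_mem _ (by rw [Sylow.coe_subtype, mem_subgroupOf]; exact hz) _
    rw [Sylow.coe_subtype, mem_subgroupOf] at h1
    exact h1
  have hcard : Nat.card (Q : Subgroup G) = q ^ e q W := by
    refine le_antisymm (card_le_of_isPGroup Q.2 hQW) ?_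
    rw [Q.card_eq_multiplicity]
    refine Nat.pow_le_pow_right hq.pos ?_
    exact (e_mono (le_top : W ≤ ⊤)).trans (le_of_eq (by rw [e, Subgroup.card_top]))
  have hQn : (Q : Subgroup G).Normal := ⟨fun x hx g => by
    obtain ⟨y, hy, hyx⟩ := exists_conj_mem hQW Q.2 hcard ((inferInstance : W.Normal).conj_mem _ (hQW hx) g)
      (isL_conj (isL_of_mem Q.2 hx) g)
    have := hWQ y⁻¹ (inv_mem hy) _ hyx
    rwa [cj_inv_cj] at this⟩
  haveI : Subsingleton (Sylow q G) := by
    haveI := Q.unique_of_normal hQn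
    infer_instance
  rwa [Subsingleton.elim Q₀ Q]

/-- The good case. -/
theorem IT.nilpotent_of_good (h : IT G n m) {v : G} {q : ℕ} (hq : q.Prime) (hv : IsL q v)
    (hvm : ix v = m) (hqn : ¬ q ∣ n) : Group.IsNilpotent G ∧ IsPrimePow n ∧ IsPrimePow m := by
  obtain ⟨p, u, hp, hu, hun⟩ := h.exists_primary_n
  obtain ⟨a, ha⟩ := h.n_eq_pow hq hv hvm hqn hp hu hun
  have ha0 : 0 < a := by
    rcases Nat.eq_zero_or_pos a with h0 | h0
    · have := h.one_lt_n; rw [ha, h0, pow_zero] at this; omega
    · exact h0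
  have hpn : p ∣ n := ha ▸ dvd_pow_self p ha0.ne'
  have hpm : ¬ p ∣ m := fun hd => hp.ne_one (Nat.eq_one_of_dvd_coprimes h.cop hpn hd)
  obtain ⟨b, hb⟩ := h.symm.n_eq_pow hp hu hun hpm hq hv hvm
  have hb0 : 0 < b := by
    rcases Nat.eq_zero_or_pos b with h0 | h0
    · have := h.one_lt_m; rw [hb, h0, pow_zero] at this; omega
    · exact h0
  have hqm : q ∣ m := hb ▸ dvd_pow_self q hb0.ne'
  have hpq : p ≠ q := fun e => hpm (e ▸ hqm)
  have nilU : Group.IsNilpotent (cent u) := h.symm.cent_nilpotent hp hu hun hpm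
  have nilV : Group.IsNilpotent (cent v) := h.cent_nilpotent hq hv hvm hqn
  refine ⟨?_, (isPrimePow_nat_iff n).mpr ⟨p, a, hp, ha0, ha.symm⟩,
    (isPrimePow_nat_iff m).mpr ⟨q, b, hq, hb0, hb.symm⟩⟩
  have central : ∀ s : ℕ, s.Prime → s ≠ p → s ≠ q → ∀ w : G, IsL s w → w ∈ center G := by
    intro s hs hsp hsq w hw
    haveI : Fact s.Prime := ⟨hs⟩
    by_contra hwc
    rcases h.vals w with ew | ew | ew | ew
    · exact hwc (ix_eq_one_iff.mp ew)
    · obtain ⟨a', ha'⟩ := h.n_eq_pow hq hv hvm hqn hs hw ew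
      exact hsp ((Nat.prime_dvd_prime_iff_eq hp hs).mp (hp.dvd_of_dvd_pow (ha' ▸ hpn))).symm
    · obtain ⟨b', hb'⟩ := h.symm.n_eq_pow hp hu hun hpm hs hw ew
      exact hsq ((Nat.prime_dvd_prime_iff_eq hq hs).mp (hq.dvd_of_dvd_pow (hb' ▸ hqm))).symm
    · have hsv : ¬ s ∣ ix v := by
        rw [hvm, hb]
        exact fun hd => hsq ((Nat.prime_dvd_prime_iff_eq hs hq).mp (hs.dvd_of_dvd_pow hd))
      obtain ⟨c, hc⟩ := exists_conj_commute hsv hw
      have hw' : ix (cj c w) = n * m := (ix_cj c w).trans ew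
      have hle : cent (cj c w) ≤ cent v :=
        h.cent_le_of_nm hw' hc (coprime_of_isL hs hq hsq (isL_conj hw c) hv)
      have hrel : (cent (cj c w)).relIndex (cent v) = n := by
        have h1 := relIndex_mul_index hle
        rw [show (cent v).index = m from hvm, show (cent (cj c w)).index = n * m from hw'] at h1
        exact Nat.eq_of_mul_eq_mul_right h.symm.n_pos h1
      exact hsp (dvd_relIndex_imp nilV hs hp (isL_conj hw c) (mem_cent.mpr hc) (hrel.symm ▸ hpn)).symm
  refine ((Group.isNilpotent_of_finite_tfae (G := G)).out 0 3).mpr fun s hs S => ?_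
  haveI := hs
  by_cases hsp : s = p
  · subst hsp
    exact h.symm.sylow_normal hq hp hpq hv hvm hb nilV S
  by_cases hsq : s = q
  · subst hsq
    exact h.sylow_normal hp hq hsp hu hun ha nilU S
  · exact ⟨fun x hx g => by
      have := central s hs.out hsp hsq x (isL_of_mem S.2 hx)
      rwa [mem_center_iff.mp this g, mul_inv_cancel_right]⟩

end Cfsg.Agent.GStructClassType
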