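import Cfsg.Agent.GStructClassType.Good

/-!
Class sizes `1, n, m, n m`: the bad case, when all pairs commute.
-/

set_option autoImplicit false
set_option linter.style.haveILetI false
set_option linter.unusedSectionVars false

namespace Cfsg.Agent.GStructClassType

open Subgroup
open Cfsg.Agent.GStructB.TwoSizes (cent mem_cent self_mem_cent IsL isL_conj isL_of_mem
  coprime_of_isL exists_primary)
open Cfsg.Agent.GroupStructure3.ClassGraph (centralizer_mul_eq index_inf_of_coprime
  exists_mul_of_coprime exists_conj_le mem_of_pow_mem)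

variable {G : Type*} [Group G]

/-- Primes of primary elements of class size `n` divide `m` and conversely. -/
structure Bad (G : Type*) [Group G] (n m : ℕ) : Prop where
  dvd_m : ∀ (p : ℕ) (u : G), p.Prime → IsL p u → ix u = n → p ∣ m
  dvd_n : ∀ (q : ℕ) (v : G), q.Prime → IsL q v → ix v = m → q ∣ n

variable {n m : ℕ}

theorem Bad.symm (hB : Bad G n m) : Bad G m n where
  dvd_m := hB.dvd_n
  dvd_n := hB.dvd_m

variable [Finite G]

/-- An element for a prime dividing `m` has class size `1`, `n` or `n m`. -/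
theorem Bad.cases_p (hB : Bad G n m) (h : IT G n m) {p : ℕ} (hp : p.Prime) (hpm : p ∣ m) {w : G}
    (hw : IsL p w) (hwc : w ∉ center G) : ix w = n ∨ ix w = n * m := by
  rcases h.vals w with e | e | e | e
  · exact absurd (ix_eq_one_iff.mp e) hwc
  · exact Or.inl e
  · exact absurd (Nat.eq_one_of_dvd_coprimes h.cop (hB.dvd_n p w hp hw e) hpm) hp.ne_one
  · exact Or.inr e

theorem factorization_mul_of_dvd {a b l : ℕ} (hc : a.Coprime b) (hl : l.Prime) (hd : l ∣ a) :
    (a * b).factorization l = a.factorization l := by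
  rw [Nat.factorization_mul_apply_of_coprime hc,
    Nat.factorization_eq_zero_of_not_dvd (n := b) fun hb => hl.ne_one (Nat.eq_one_of_dvd_coprimes hc hd hb),
    Nat.add_zero]

theorem e_eq_of_index {l : ℕ} {H K : Subgroup G} (h : H.index.factorization l = K.index.factorization l) :
    e l H = e l K := by
  have := e_add_index l H
  have := e_add_index l K
  omega

/-- Centralisers of class sizes `n` and `n m` have the same `l`-part for `l ∣ n`. -/
theorem IT.e_eq (h : IT G n m) {l : ℕ} (hl : l.Prime) (hln : l ∣ n) {H K : Subgroup G}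
    (hH : H.index = n ∨ H.index = n * m) (hK : K.index = n ∨ K.index = n * m) : e l H = e l K := by
  refine e_eq_of_index ?_
  rcases hH with e1 | e1 <;> rcases hK with e2 | e2 <;> rw [e1, e2] <;>
    simp only [factorization_mul_of_dvd h.cop hl hln]

theorem eq_of_e_le {H K : Subgroup G} (hHK : H ≤ K) (h : ∀ l : ℕ, l.Prime → e l K ≤ e l H) : H = K := by
  refine Subgroup.eq_of_le_of_card_ge hHK (Nat.le_of_dvd Nat.card_pos ?_)
  refine (Nat.factorization_le_iff_dvd Nat.card_pos.ne' Nat.card_pos.ne').mp fun l => ?_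
  by_cases hl : l.Prime
  · exact h l hl
  · rw [Nat.factorization_eq_zero_of_not_prime _ hl]; exact Nat.zero_le _

theorem not_dvd_relIndex {l : ℕ} (hl : l.Prime) {H K : Subgroup G} (h : e l K ≤ e l (H ⊓ K)) :
    ¬ l ∣ H.relIndex K := by
  intro hd
  have h3 := e_add_relIndex (inf_le_right : H ⊓ K ≤ K) l
  rw [inf_relIndex_right] at h3
  have h5 : H.relIndex K ≠ 0 := (H.subgroupOf K).index_ne_zero_of_finite
  have := hl.factorization_pos_of_dvd h5 hd
  omega

theorem coprime_mul_of_isL {u v : G} (hcom : Commute u v) {k : ℕ} (hu : (orderOf u).Coprime k)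
    (hv : (orderOf v).Coprime k) : (orderOf (u * v)).Coprime k :=
  (hu.mul_left hv).coprime_dvd_left hcom.orderOf_mul_dvd_mul_orderOf

theorem coprime_orderOf_of_isL {p l : ℕ} (hp : p.Prime) (hl : l.Prime) (hne : p ≠ l) {u : G}
    (hu : IsL p u) : (orderOf u).Coprime l := by
  obtain ⟨k, hk⟩ := hu
  exact hk ▸ ((Nat.coprime_primes hp hl).mpr hne).pow_left k

theorem coprime_orderOf_isL {l : ℕ} {z w : G} (hz : IsL l z) (hw : (orderOf w).Coprime l) :
    (orderOf w).Coprime (orderOf z) := by
  obtain ⟨k, hk⟩ := hz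
  exact hk ▸ hw.pow_right k

/-- Data of a commuting pair in the bad case where all pairs commute. -/
structure CPair (G : Type*) [Group G] (n m p q : ℕ) (u v : G) : Prop where
  it : IT G n m
  bad : Bad G n m
  hp : p.Prime
  hq : q.Prime
  hu : IsL p u
  hv : IsL q v
  hun : ix u = n
  hvm : ix v = m
  allc : ∀ (p' q' : ℕ) (a b : G), p'.Prime → q'.Prime → IsL p' a → IsL q' b → ix a = n → ix b = m →
    Commute a b

variable {p q : ℕ} {u v : G}

theorem CPair.symm (P : CPair G n m p q u v) : CPair G m n q p v u where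
  it := P.it.symm
  bad := P.bad.symm
  hp := P.hq
  hq := P.hp
  hu := P.hv
  hv := P.hu
  hun := P.hvm
  hvm := P.hun
  allc p' q' a b hp' hq' ha hb h1 h2 := (P.allc q' p' b a hq' hp' hb ha h2 h1).symm

theorem CPair.pm (P : CPair G n m p q u v) : p ∣ m := P.bad.dvd_m p u P.hp P.hu P.hun

theorem CPair.qn (P : CPair G n m p q u v) : q ∣ n := P.bad.dvd_n q v P.hq P.hv P.hvm

theorem CPair.ne (P : CPair G n m p q u v) : p ≠ q := fun e =>
  P.hp.ne_one (Nat.eq_one_of_dvd_coprimes P.it.cop (e ▸ P.qn) P.pm)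

theorem CPair.comm (P : CPair G n m p q u v) : Commute u v :=
  P.allc p q u v P.hp P.hq P.hu P.hv P.hun P.hvm

theorem CPair.cent_uv (P : CPair G n m p q u v) : cent (u * v) = cent u ⊓ cent v :=
  centralizer_mul_eq P.comm (coprime_of_isL P.hp P.hq P.ne P.hu P.hv)

theorem CPair.idx (P : CPair G n m p q u v) : (cent u ⊓ cent v).index = n * m :=
  (P.it.index_inf P.hun P.hvm).1

/-- Elements of order prime to `p q` are central in `T`. -/
theorem CPair.central_T (P : CPair G n m p q u v) {z : G} (hz : z ∈ cent u ⊓ cent v)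
    (hzp : (orderOf z).Coprime p) (hzq : (orderOf z).Coprime q) : cent u ⊓ cent v ≤ cent z := by
  obtain ⟨i, hi⟩ := P.hu
  obtain ⟨j, hj⟩ := P.hv
  rw [← P.cent_uv]
  refine P.it.cent_le_of_nm (by rw [ix, P.cent_uv]; exact P.idx)
    (mem_cent.mp (P.cent_uv ▸ hz)).symm ?_
  exact coprime_mul_of_isL P.comm (hi ▸ (hzp.symm.pow_left i)) (hj ▸ (hzq.symm.pow_left j))

/-- A `q`-element of class size `n m` in `T` centralises an abelian Sylow `p`-subgroup of `T`. -/
theorem CPair.sylow_of_nm (P : CPair G n m p q u v) {a : G} (ha : a ∈ cent u ⊓ cent v)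
    (haq : IsL q a) (han : ix a = n * m) :
    ∃ S : Subgroup G, S ≤ cent a ⊓ (cent u ⊓ cent v) ∧ IsPGroup p S ∧
      Nat.card S = p ^ e p (cent u ⊓ cent v) ∧ ∀ x ∈ S, ∀ y ∈ S, Commute x y := by
  haveI : Fact p.Prime := ⟨P.hp⟩
  obtain ⟨S, hSa, hS, hSc⟩ := isPGroup_le_sylow (l := p) (H := cent a)
  have key : ∀ y ∈ S, cent a ≤ cent y := fun y hy => P.it.cent_le_of_nm han
    (mem_cent.mp (hSa hy)).symm (coprime_of_isL P.hq P.hp P.ne.symm haq (isL_of_mem hS hy))
  have hee : e p (cent a) = e p (cent u ⊓ cent v) :=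
    e_eq_of_index (by rw [show (cent a).index = n * m from han, P.idx])
  refine ⟨S, le_inf hSa fun y hy => ⟨?_, ?_⟩, hS, hee ▸ hSc, fun x hx y hy => ?_⟩
  · exact mem_cent.mpr (mem_cent.mp (key y hy (mem_cent.mpr (mem_cent.mp ha.1).symm))).symm
  · exact mem_cent.mpr (mem_cent.mp (key y hy (mem_cent.mpr (mem_cent.mp ha.2).symm))).symm
  · exact mem_cent.mp (key y hy (hSa hx))

/-- An element of class size `n` in `T` centralises the `q`-elements of `T`. -/
theorem CPair.commute_T (P : CPair G n m p q u v) {d : G} (hd : d ∈ cent u ⊓ cent v)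
    (hdp : IsL p d) (hdn : ix d = n) : ∀ a ∈ cent u ⊓ cent v, IsL q a → Commute d a := by
  haveI : Fact p.Prime := ⟨P.hp⟩
  haveI : Fact q.Prime := ⟨P.hq⟩
  set T := cent u ⊓ cent v with hT
  have simple : ∀ a : G, IsL q a → ix a ≠ n * m → Commute d a := by
    intro a haq hne
    rcases P.it.vals a with e | e | e | e
    · exact mem_center_iff.mp (ix_eq_one_iff.mp e) d
    · exact absurd (Nat.eq_one_of_dvd_coprimes P.it.cop P.qn (P.bad.dvd_m q a P.hq haq e)) P.hq.ne_one
    · exact P.allc p q d a P.hp P.hq hdp haq hdn e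
    · exact absurd e hne
  intro a haT haq
  by_cases han : ix a = n * m
  swap
  · exact simple a haq han
  by_cases hex : ∃ d' ∈ T, IsL p d' ∧ ix d' = n * m
  · -- both Sylow subgroups are abelian, so `a` is central in `T`
    obtain ⟨d', hd', hd'p, hd'n⟩ := hex
    have P' := P.symm
    obtain ⟨SQ, hSQ, hSQp, hSQc, hSQa⟩ := P'.sylow_of_nm (a := d') ⟨hd'.2, hd'.1⟩ hd'p
      (hd'n.trans (Nat.mul_comm _ _))
    rw [inf_comm (a := cent v) (b := cent u), ← hT] at hSQ hSQc
    obtain ⟨c, hcT, hca⟩ := exists_conj_mem (hSQ.trans inf_le_right) hSQp hSQc haT haq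
    have han' : ix (cj c a) = n * m := (ix_cj c a).trans han
    obtain ⟨SP, hSP, hSPp, hSPc, -⟩ := P.sylow_of_nm (a := cj c a) ((hSQ hca).2) (isL_conj haq c) han'
    have hall : cent (cj c a) ⊓ T = T := by
      refine eq_of_e_le inf_le_right fun l hl => ?_
      haveI : Fact l.Prime := ⟨hl⟩
      by_cases hlp : l = p
      · subst hlp
        have := card_le_of_isPGroup hSPp hSP
        rw [hSPc] at this
        exact (Nat.pow_le_pow_iff_right hl.one_lt).mp this
      by_cases hlq : l = q
      · subst hlq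
        have h1 : SQ ≤ cent (cj c a) ⊓ T := le_inf
          (fun y hy => mem_cent.mpr (hSQa y hy _ hca)) (hSQ.trans inf_le_right)
        have := card_le_of_isPGroup hSQp h1
        rw [hSQc] at this
        exact (Nat.pow_le_pow_iff_right hl.one_lt).mp this
      · refine e_le_of_forall_isL fun y hy hyl => ⟨?_, hy⟩
        refine mem_cent.mpr (mem_cent.mp ?_).symm
        exact P.central_T hy (coprime_orderOf_of_isL hl P.hp hlp hyl)
          (coprime_orderOf_of_isL hl P.hq hlq hyl) ((hSQ hca).2)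
    have h1 : cent (cj c a) ⊓ T = T := hall
    have hcomm : ∀ y ∈ T, Commute y (cj c a) := fun y hy => mem_cent.mp (h1.ge hy).1
    have : a = cj c a := by
      have h2 := hcomm c hcT
      calc a = c⁻¹ * (cj c a * c) := by simp [cj, mul_assoc]
        _ = c⁻¹ * (c * cj c a) := by rw [h2.eq]
        _ = cj c a := inv_mul_cancel_left _ _
    rw [this]
    exact hcomm d hd
  · -- all `p`-elements have class size `n` or `1`
    obtain ⟨Sp⟩ : Nonempty (Sylow p T) := inferInstance
    have h35 := S4035.result (G := T) (p := p) (fun g hg hdiv => by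
      rw [ncard_carrier, cent_subtype] at hdiv
      rw [← Subgroup.orderOf_coe] at hg
      refine not_dvd_relIndex P.hp ?_ hdiv
      obtain ⟨i, s, hord, hs, hsq⟩ := GStructB.PElements.exists_split q (g : G)
      set a' := (g : G) ^ s with ha'
      set r := (g : G) ^ q ^ i with hr
      have ha'T : a' ∈ T := pow_mem g.2 s
      have hrT : r ∈ T := pow_mem g.2 _
      have hrq : (orderOf r).Coprime q := by
        rw [hr, orderOf_pow' _ (pow_ne_zero _ P.hq.ne_zero), hord,
          Nat.gcd_eq_right (dvd_mul_right _ _), Nat.mul_div_cancel_left _ (pow_pos P.hq.pos i)]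
        exact (P.hq.coprime_iff_not_dvd.mpr hs).symm
      have hrp : (orderOf r).Coprime p :=
        hg.coprime_dvd_left (orderOf_pow_dvd _)
      have hrc := P.central_T hrT hrp hrq
      have hgy : ∀ y ∈ T, Commute y a' → y ∈ cent (g : G) ⊓ T := fun y hy hya => by
        refine ⟨mem_cent.mpr ?_, hy⟩
        refine (mem_cent.mp (mem_of_pow_mem (S := cent y)
          (((P.hq.coprime_iff_not_dvd).mpr hs).pow_left i).symm
          (mem_cent.mpr hya.symm) (mem_cent.mpr (mem_cent.mp (hrc hy)).symm))).symm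
      have hp_el : ∀ S : Subgroup G, S ≤ T → IsPGroup p S → Nat.card S = p ^ e p T →
          (∀ y ∈ S, Commute y a') → e p T ≤ e p (cent (g : G) ⊓ T) := by
        intro S hS hSp hSc hSa
        have := card_le_of_isPGroup hSp (fun y hy => hgy y (hS hy) (hSa y hy) : S ≤ cent (g : G) ⊓ T)
        rw [hSc] at this
        exact (Nat.pow_le_pow_iff_right P.hp.one_lt).mp this
      rcases P.it.vals a' with e' | e' | e' | e'
      · exact e_le_of_forall_isL fun y hy _ => hgy y hy (mem_center_iff.mp (ix_eq_one_iff.mp e') y)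
      · exact absurd (Nat.eq_one_of_dvd_coprimes P.it.cop P.qn (P.bad.dvd_m q a' P.hq ⟨i, hsq⟩ e'))
          P.hq.ne_one
      · refine e_le_of_forall_isL fun y hy hyp => hgy y hy ?_
        by_cases hyc : y ∈ center G
        · exact (mem_center_iff.mp hyc a').symm
        rcases P.bad.cases_p P.it P.hp P.pm hyp hyc with ey | ey
        · exact P.allc p q y a' P.hp P.hq hyp ⟨i, hsq⟩ ey e'
        · exact absurd ⟨y, hy, hyp, ey⟩ hex
      · obtain ⟨S, hS, hSp, hSc, -⟩ := P.sylow_of_nm ha'T ⟨i, hsq⟩ e'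
        exact hp_el S (hS.trans inf_le_right) hSp hSc fun y hy => mem_cent.mp (hS hy).1) Sp
    obtain ⟨hPn, H, hHn, hpH, hdisj, htop⟩ := h35
    obtain ⟨x, hx, y, hy, hxy⟩ : ∃ x ∈ (Sp : Subgroup T), ∃ y ∈ H, x * y = ⟨a, haT⟩ := by
      haveI := hHn
      exact mem_sup_of_normal_right.mp (htop ▸ mem_top (⟨a, haT⟩ : T))
    have hdS : (⟨d, hd⟩ : T) ∈ (Sp : Subgroup T) := by
      obtain ⟨k, hk⟩ := hdp
      obtain ⟨S', hS'⟩ := GStructB.PElements.exists_mem_sylow (x := (⟨d, hd⟩ : T)) (p := p) (k := k)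
        (by rwa [Subgroup.orderOf_mk])
      haveI : Subsingleton (Sylow p T) := by
        haveI := Sp.unique_of_normal hPn
        infer_instance
      rwa [Subsingleton.elim S' Sp] at hS'
    have hxy' := Subgroup.commute_of_normal_of_disjoint _ _ hPn hHn (disjoint_iff.mpr hdisj) x y hx hy
    have hx1 : x = 1 := by
      obtain ⟨k, hk⟩ := haq
      have h1 : (x * y) ^ q ^ k = 1 := by
        rw [hxy, ← hk, ← Subgroup.orderOf_mk a haT, pow_orderOf_eq_one]
      rw [hxy'.mul_pow] at h1
      have h2 : x ^ q ^ k ∈ H := by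
        rw [eq_inv_of_mul_eq_one_left h1]
        exact inv_mem (pow_mem hy _)
      have h3 : x ^ q ^ k = 1 := by
        have : x ^ q ^ k ∈ (Sp : Subgroup T) ⊓ H := ⟨pow_mem hx _, h2⟩
        rwa [hdisj, mem_bot] at this
      obtain ⟨j, hj⟩ := isL_of_mem Sp.2 hx
      exact orderOf_eq_one_iff.mp (Nat.eq_one_of_dvd_coprimes
        (((Nat.coprime_primes P.hp P.hq).mpr P.ne).pow j k) (hj ▸ dvd_rfl) (orderOf_dvd_of_pow_eq_one h3))
    rw [hx1, one_mul] at hxy
    have := Subgroup.commute_of_normal_of_disjoint _ _ hPn hHn (disjoint_iff.mpr hdisj) _ y hdS hy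
    rw [hxy] at this
    exact congrArg Subtype.val this

/-- The commuting bad case is impossible. -/
theorem CPair.false (P : CPair G n m p q u v) : False := by
  haveI : Fact p.Prime := ⟨P.hp⟩
  haveI : Fact q.Prime := ⟨P.hq⟩
  set K := cent u with hK
  have hu' := P.hu
  have hTK : e q K = e q (cent u ⊓ cent v) := P.it.e_eq P.hq P.qn (Or.inl P.hun) (Or.inr P.idx)
  obtain ⟨Q⟩ : Nonempty (Sylow q K) := inferInstance
  have h35 := S4035.result (G := K) (p := q) (fun g hg hdiv => by
    rw [ncard_carrier, cent_subtype] at hdiv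
    rw [← Subgroup.orderOf_coe] at hg
    refine not_dvd_relIndex P.hq ?_ hdiv
    obtain ⟨i, s, hord, hs, hsp⟩ := GStructB.PElements.exists_split p (g : G)
    set d := (g : G) ^ s with hd
    set b := (g : G) ^ p ^ i with hb
    have hdK : d ∈ K := pow_mem g.2 s
    have hbK : b ∈ K := pow_mem g.2 _
    have hbp : (orderOf b).Coprime p := by
      rw [hb, orderOf_pow' _ (pow_ne_zero _ P.hp.ne_zero), hord,
        Nat.gcd_eq_right (dvd_mul_right _ _), Nat.mul_div_cancel_left _ (pow_pos P.hp.pos i)]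
      exact (P.hp.coprime_iff_not_dvd.mpr hs).symm
    have hbq : (orderOf b).Coprime q := hg.coprime_dvd_left (orderOf_pow_dvd _)
    have hgy : ∀ y ∈ K, Commute y d → Commute y b → y ∈ cent (g : G) ⊓ K := fun y hy hyd hyb => by
      refine ⟨mem_cent.mpr ?_, hy⟩
      exact (mem_cent.mp (mem_of_pow_mem (S := cent y)
        (((P.hp.coprime_iff_not_dvd).mpr hs).pow_left i).symm
        (mem_cent.mpr hyd.symm) (mem_cent.mpr hyb.symm))).symm
    by_cases hbc : K ≤ cent b
    · have hgy' : ∀ y ∈ K, Commute y d → y ∈ cent (g : G) ⊓ K := fun y hy hyd =>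
        hgy y hy hyd (mem_cent.mp (hbc hy))
      by_cases hdc : d ∈ center G
      · exact e_le_of_forall_isL fun y hy _ => hgy' y hy (mem_center_iff.mp hdc y)
      rcases P.bad.cases_p P.it P.hp P.pm ⟨i, hsp⟩ hdc with ed | ed
      · have hdv : Commute d v := P.allc p q d v P.hp P.hq ⟨i, hsp⟩ P.hv ed P.hvm
        have hcom := P.commute_T ⟨hdK, mem_cent.mpr hdv⟩ ⟨i, hsp⟩ ed
        rw [hTK]
        exact e_le_of_forall_isL fun y hy hyq => hgy' y hy.1 (hcom y hy hyq).symm
      · rw [P.it.e_eq P.hq P.qn (Or.inl P.hun) (Or.inr ed : (cent d).index = n ∨ (cent d).index = n * m)]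
        refine e_le_of_forall_isL fun y hy hyq => hgy' y ?_ (mem_cent.mp hy)
        have hle := P.it.cent_le_of_nm ed (mem_cent.mp hy).symm
          (coprime_of_isL P.hp P.hq P.ne ⟨i, hsp⟩ hyq)
        exact mem_cent.mpr (mem_cent.mp (hle (mem_cent.mpr (mem_cent.mp hdK).symm))).symm
    · have hub : Commute u b := (mem_cent.mp hbK).symm
      have hco : (orderOf u).Coprime (orderOf b) := by
        obtain ⟨k, hk⟩ := hu'
        exact hk ▸ hbp.symm.pow_left k
      have hce : cent (u * b) = cent u ⊓ cent b := centralizer_mul_eq hub hco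
      have hnm : ix (u * b) = n * m := by
        rcases P.it.of_n_dvd (P.hun ▸ ix_dvd_mul_left hub hco) with e' | e'
        · exact absurd ((eq_of_cent_le (hce ▸ inf_le_left) (e'.trans P.hun.symm)).ge.trans
            (hce ▸ inf_le_right)) hbc
        · exact e'
      have hee : e q K = e q (cent (u * b)) :=
        P.it.e_eq P.hq P.qn (Or.inl P.hun) (Or.inr hnm)
      rw [hee]
      refine e_le_of_forall_isL fun y hy hyq => ?_
      have hy' : y ∈ cent u ⊓ cent b := hce ▸ hy
      refine hgy y hy'.1 ?_ (mem_cent.mp hy'.2)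
      have hle := P.it.cent_le_of_nm hnm (mem_cent.mp hy).symm
        (coprime_orderOf_isL hyq (coprime_mul_of_isL hub (coprime_orderOf_of_isL P.hp P.hq P.ne hu') hbq))
      refine (mem_cent.mp (hle (hce ▸ ⟨hdK, mem_cent.mpr ?_⟩))).symm
      exact (Commute.refl (g : G)).pow_pow s _) Q
  obtain ⟨hQn, H, hHn, hqH, hdisj, htop⟩ := h35
  have hvK : v ∈ K := mem_cent.mpr P.comm.symm
  have hvQ : (⟨v, hvK⟩ : K) ∈ (Q : Subgroup K) := by
    obtain ⟨k, hk⟩ := P.hv
    obtain ⟨S', hS'⟩ := GStructB.PElements.exists_mem_sylow (x := (⟨v, hvK⟩ : K)) (p := q) (k := k)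
      (by rwa [Subgroup.orderOf_mk])
    haveI : Subsingleton (Sylow q K) := by
      haveI := Q.unique_of_normal hQn
      infer_instance
    rwa [Subsingleton.elim S' Q] at hS'
  have hHv : H ≤ (cent v).subgroupOf K := by
    intro y hy
    rw [mem_subgroupOf, mem_cent]
    exact congrArg Subtype.val
      (Subgroup.commute_of_normal_of_disjoint _ _ hQn hHn (disjoint_iff.mpr hdisj) _ y hvQ hy).symm
  have hrel : (cent v).relIndex K = m := (P.it.symm.index_inf P.hvm P.hun).2
  haveI := hHn
  have hpd : p ∣ H.index := (P.pm.trans (dvd_of_eq hrel.symm)).trans (index_dvd_of_le hHv)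
  have hsur : (Q : Subgroup K).map (QuotientGroup.mk' H) = ⊤ := by
    rw [← Subgroup.map_top_of_surjective _ (QuotientGroup.mk'_surjective H), ← htop, Subgroup.map_sup]
    simp
  have hquot : IsPGroup q (⊤ : Subgroup (K ⧸ H)) := hsur ▸ Q.2.map _
  obtain ⟨j, hj⟩ := IsPGroup.iff_card.mp hquot
  rw [Subgroup.card_top, ← Subgroup.index_eq_card] at hj
  exact P.ne ((Nat.prime_dvd_prime_iff_eq P.hp P.hq).mp (P.hp.dvd_of_dvd_pow (hj ▸ hpd)))

end Cfsg.Agent.GStructClassType
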