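import Cfsg.Agent.GroupStructure3.ClassGraph.Basic
import Cfsg.Agent.GStructB.TwoSizes
import Cfsg.Agent.Lib.CN.Basic

/-!
Groups with class sizes `1, n, m, n m` for coprime `n, m`: basic facts.
-/

set_option autoImplicit false
set_option linter.style.haveILetI false
set_option linter.unusedSectionVars false

namespace Cfsg.Agent.GStructClassType

open Subgroup
open Cfsg.Agent.GStructB.TwoSizes (cent mem_cent self_mem_cent IsL isL_conj isL_of_mem
  coprime_of_isL exists_primary)
open Cfsg.Agent.GroupStructure3.ClassGraph (centralizer_mul_eq index_inf_of_coprime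
  exists_mul_of_coprime exists_conj_le)

variable {G : Type*} [Group G]

/-- The class size. -/
noncomputable abbrev ix (w : G) : ℕ := (cent w).index

/-- `e l H` is the exponent of `l` in the order of `H`. -/
noncomputable abbrev e (l : ℕ) (H : Subgroup G) : ℕ := (Nat.card H).factorization l

/-- The conjugate of an element. -/
abbrev cj (c w : G) : G := c * w * c⁻¹

theorem commute_cj {a b : G} (h : Commute a b) (c : G) : Commute (cj c a) (cj c b) :=
  h.map (MulAut.conj c).toMonoidHom

theorem cj_inv_cj (c w : G) : cj c⁻¹ (cj c w) = w := by simp [cj, mul_assoc]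

theorem cj_cj (c d w : G) : cj c (cj d w) = cj (c * d) w := by simp [cj, mul_assoc]

theorem cent_cj (c w : G) : cent (cj c w) = (cent w).map (MulAut.conj c).toMonoidHom :=
  GroupStructure3.ClassGraph.centralizer_conj c w

theorem ix_cj (c w : G) : ix (cj c w) = ix w := GroupStructure3.ClassGraph.cs_conj c w

theorem cj_notMem_center {w : G} (h : w ∉ center G) (c : G) : cj c w ∉ center G := fun hc =>
  h (by
    have := (inferInstance : (center G).Normal).conj_mem _ hc c⁻¹
    simpa [cj, mul_assoc] using this)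

theorem ix_eq_one_iff {w : G} : ix w = 1 ↔ w ∈ center G :=
  GroupStructure3.ClassGraph.cs_eq_one_iff

theorem center_le_cent (w : G) : center G ≤ cent w := Subgroup.center_le_centralizer _

/-- Class sizes `1, n, m, n m`. -/
structure IT (G : Type*) [Group G] (n m : ℕ) : Prop where
  one_lt_n : 1 < n
  one_lt_m : 1 < m
  cop : n.Coprime m
  vals : ∀ x : G, ix x = 1 ∨ ix x = n ∨ ix x = m ∨ ix x = n * m
  exN : ∃ x : G, ix x = n
  exM : ∃ x : G, ix x = m
  exNM : ∃ x : G, ix x = n * m

variable {n m : ℕ}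

theorem IT.symm (h : IT G n m) : IT G m n where
  one_lt_n := h.one_lt_m
  one_lt_m := h.one_lt_n
  cop := h.cop.symm
  vals x := by
    rcases h.vals x with e | e | e | e
    · exact Or.inl e
    · exact Or.inr (Or.inr (Or.inl e))
    · exact Or.inr (Or.inl e)
    · exact Or.inr (Or.inr (Or.inr (e.trans (Nat.mul_comm _ _))))
  exN := h.exM
  exM := h.exN
  exNM := h.exNM.imp fun _ hx => hx.trans (Nat.mul_comm _ _)

theorem IT.not_n_dvd_m (h : IT G n m) : ¬ n ∣ m := fun hd => by
  have := h.cop.eq_one_of_dvd hd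
  have := h.one_lt_n
  omega

theorem IT.notMem_center_n (h : IT G n m) {w : G} (hw : ix w = n) : w ∉ center G := fun hc => by
  have := ix_eq_one_iff.mpr hc
  have := h.one_lt_n
  omega

theorem IT.notMem_center_nm (h : IT G n m) {w : G} (hw : ix w = n * m) : w ∉ center G := fun hc => by
  have h1 := ix_eq_one_iff.mpr hc
  have h2 := h.one_lt_n
  have h3 := h.one_lt_m
  have : n * 1 < n * m := Nat.mul_lt_mul_of_pos_left h3 (by omega)
  omega

theorem IT.of_dvd_n (h : IT G n m) {w : G} (hw : ix w ∣ n) (hc : w ∉ center G) : ix w = n := by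
  rcases h.vals w with e | e | e | e
  · exact absurd (ix_eq_one_iff.mp e) hc
  · exact e
  · exact absurd (e ▸ hw) h.symm.not_n_dvd_m
  · exact absurd ((dvd_mul_left m n).trans (e ▸ hw)) h.symm.not_n_dvd_m

theorem IT.of_n_dvd (h : IT G n m) {w : G} (hw : n ∣ ix w) : ix w = n ∨ ix w = n * m := by
  rcases h.vals w with e | e | e | e
  · exact absurd (e ▸ hw) (fun hd => by have := Nat.le_of_dvd one_pos hd; have := h.one_lt_n; omega)
  · exact Or.inl e
  · exact absurd (e ▸ hw) h.not_n_dvd_m
  · exact Or.inr e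

variable [Finite G]

theorem IT.n_pos (h : IT G n m) : 0 < n := by have := h.one_lt_n; omega

/-- A prime power element with class size `n` exists. -/
theorem IT.exists_primary_n (h : IT G n m) :
    ∃ p u, p.Prime ∧ IsL p u ∧ ix (G := G) u = n := by
  obtain ⟨x, hx⟩ := h.exN
  obtain ⟨l, hl, k, hk, hkc⟩ := exists_primary (h.notMem_center_n hx)
  exact ⟨l, x ^ k, hl, hk, h.of_dvd_n (hx ▸ GroupStructure3.ClassGraph.cs_pow_dvd x k) hkc⟩

theorem IT.of_nm_dvd (h : IT G n m) {w : G} (hw : n * m ∣ ix w) : ix w = n * m := by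
  rcases h.of_n_dvd ((dvd_mul_right n m).trans hw) with e | e
  · exact absurd ((dvd_mul_left m n).trans (e ▸ hw)) h.symm.not_n_dvd_m
  · exact e

theorem eq_of_cent_le {a b : G} (hle : cent a ≤ cent b) (h : ix a = ix b) : cent a = cent b := by
  refine Subgroup.eq_of_le_of_card_ge hle ?_
  have h1 := (cent a).card_mul_index
  have h2 := (cent b).card_mul_index
  rw [ix, ix] at h
  rw [h] at h1
  exact le_of_eq (Nat.eq_of_mul_eq_mul_right (Nat.pos_of_ne_zero index_ne_zero_of_finite) (h2.trans h1.symm))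

theorem ix_dvd_mul_left {a b : G} (h : Commute a b) (hc : (orderOf a).Coprime (orderOf b)) :
    ix a ∣ ix (a * b) := by
  refine Subgroup.index_dvd_of_le ?_
  rw [show cent (a * b) = cent a ⊓ cent b from centralizer_mul_eq h hc]
  exact inf_le_left

/-- An element commuting coprimely with one of class size `n m` centralises its centraliser. -/
theorem IT.cent_le_of_nm (h : IT G n m) {w z : G} (hw : ix w = n * m) (hcom : Commute w z)
    (hc : (orderOf w).Coprime (orderOf z)) : cent w ≤ cent z := by
  have e : cent (w * z) = cent w ⊓ cent z := centralizer_mul_eq hcom hc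
  have h1 : ix (w * z) = n * m := h.of_nm_dvd (hw ▸ ix_dvd_mul_left hcom hc)
  have h2 : cent (w * z) = cent w := eq_of_cent_le (e ▸ inf_le_left) (h1.trans hw.symm)
  rw [← h2, e]
  exact inf_le_right

/-- Two elements of class sizes `n` and `m`. -/
theorem IT.index_inf (h : IT G n m) {a b : G} (ha : ix a = n) (hb : ix b = m) :
    (cent a ⊓ cent b).index = n * m ∧ (cent a).relIndex (cent b) = n := by
  have hc : (cent a).index.Coprime (cent b).index := by
    show (ix a).Coprime (ix b)
    rw [ha, hb]; exact h.cop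
  obtain ⟨h1, h2⟩ := index_inf_of_coprime hc
  exact ⟨h1.trans (by rw [← ha, ← hb]), h2.trans ha⟩

theorem IT.ix_mul (h : IT G n m) {a b : G} (ha : ix a = n) (hb : ix b = m) (hcom : Commute a b)
    (hc : (orderOf a).Coprime (orderOf b)) : ix (a * b) = n * m := by
  rw [ix, show cent (a * b) = cent a ⊓ cent b from centralizer_mul_eq hcom hc]
  exact (h.index_inf ha hb).1

/-- If elements of class sizes `n` and `m` commute then so do all their conjugates. -/
theorem IT.commute_conj (h : IT G n m) {a b : G} (ha : ix a = n) (hb : ix b = m) (hcom : Commute a b)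
    (g k : G) : Commute (cj g a) (cj k b) := by
  have hc : (cent b).index.Coprime (cent a).index := by
    show (ix b).Coprime (ix a)
    rw [ha, hb]; exact h.cop.symm
  obtain ⟨u, hu, v, hv, e⟩ := exists_mul_of_coprime hc (g⁻¹ * k)
  have hk : k = g * (u * v) := by rw [← e]; group
  have hv' : cj v b = b := by rw [cj, (mem_cent.mp hv).eq, mul_inv_cancel_right]
  have hu' : cj u a = a := by rw [cj, (mem_cent.mp hu).eq, mul_inv_cancel_right]
  rw [hk, ← cj_cj g (u * v) b, ← cj_cj u v b, hv']
  refine commute_cj ?_ g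
  have := commute_cj hcom u
  rwa [hu'] at this

/-- The product formula for the exponents. -/
theorem e_cent_add (l : ℕ) (w : G) : e l (cent w) + (ix w).factorization l = e l (⊤ : Subgroup G) := by
  rw [e, e, Subgroup.card_top, ← (cent w).card_mul_index,
    Nat.factorization_mul Nat.card_pos.ne' index_ne_zero_of_finite]
  rfl

theorem e_add_index (l : ℕ) (H : Subgroup G) :
    e l H + H.index.factorization l = e l (⊤ : Subgroup G) := by
  rw [e, e, Subgroup.card_top, ← H.card_mul_index,
    Nat.factorization_mul Nat.card_pos.ne' index_ne_zero_of_finite]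
  rfl

theorem e_mono {l : ℕ} {H K : Subgroup G} (h : H ≤ K) : e l H ≤ e l K :=
  (Nat.factorization_le_iff_dvd Nat.card_pos.ne' Nat.card_pos.ne').mpr (Subgroup.card_dvd_of_le h) l

theorem e_add_relIndex {H K : Subgroup G} (h : H ≤ K) (l : ℕ) :
    e l H + (H.relIndex K).factorization l = e l K := by
  have hc : Nat.card H * H.relIndex K = Nat.card K := by
    have h1 := (H.subgroupOf K).card_mul_index
    rwa [Nat.card_congr (subgroupOfEquivOfLe h).toEquiv] at h1
  have h2 : H.relIndex K ≠ 0 := (H.subgroupOf K).index_ne_zero_of_finite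
  rw [e, e, ← hc, Nat.factorization_mul Nat.card_pos.ne' h2]
  rfl

theorem isPGroup_le_sylow {l : ℕ} [Fact l.Prime] {H : Subgroup G} :
    ∃ S : Subgroup G, S ≤ H ∧ IsPGroup l S ∧ Nat.card S = l ^ e l H :=
  GStructB.TwoSizes.exists_sylow_in (l := l) H

theorem card_le_of_isPGroup {l : ℕ} [Fact l.Prime] {T H : Subgroup G} (hT : IsPGroup l T)
    (h : T ≤ H) : Nat.card T ≤ l ^ e l H := GStructB.TwoSizes.card_le_lp hT h

/-- A `l`-subgroup of full order in `H` is a Sylow subgroup of `H`. -/
theorem exists_conj_mem {l : ℕ} [Fact l.Prime] {H S : Subgroup G} (hSH : S ≤ H) (hS : IsPGroup l S)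
    (hcard : Nat.card S = l ^ e l H) {x : G} (hx : x ∈ H) (hxl : IsL l x) :
    ∃ c ∈ H, cj c x ∈ S := by
  obtain ⟨k, hk⟩ := hxl
  obtain ⟨T, hT⟩ := (GStructB.PElements.isPGroup_zpowers
    (x := (⟨x, hx⟩ : H)) (p := l) (k := k) (by rwa [Subgroup.orderOf_mk])).exists_le_sylow
  have hc : Nat.card (S.subgroupOf H) = l ^ (Nat.card H).factorization l := by
    rw [Nat.card_congr (subgroupOfEquivOfLe hSH).toEquiv, hcard]
  obtain ⟨c, hcT⟩ := MulAction.exists_smul_eq H T (Sylow.ofCard (S.subgroupOf H) hc)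
  refine ⟨c, c.2, ?_⟩
  have h1 : c * ⟨x, hx⟩ * c⁻¹ ∈ ((c • T : Sylow l H) : Subgroup H) := by
    rw [Sylow.coe_subgroup_smul]
    exact Subgroup.smul_mem_pointwise_smul _ (MulAut.conj c) _ (hT (mem_zpowers _))
  rw [hcT, Sylow.coe_ofCard, mem_subgroupOf] at h1
  simpa using h1

/-- An `l`-element outside the normal subgroup `N` forces a larger `l`-part. -/
theorem e_lt_of_isL {l : ℕ} [hl : Fact l.Prime] {N H : Subgroup G} [N.Normal] (hNH : N ≤ H)
    {y : G} (hy : y ∈ H) (hyl : IsL l y) (hyN : y ∉ N) : e l N < e l H := by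
  by_contra hle
  obtain ⟨S, hSN, hS, hSc⟩ := isPGroup_le_sylow (l := l) (H := N)
  have hEq : Nat.card S = l ^ e l H := by
    rw [hSc]; congr 1; exact le_antisymm (e_mono hNH) (not_lt.mp hle)
  obtain ⟨c, -, hc⟩ := exists_conj_mem (hSN.trans hNH) hS hEq hy hyl
  have := (inferInstance : N.Normal).conj_mem _ (hSN hc) c⁻¹
  exact hyN (by simpa [cj, mul_assoc] using this)

/-- If all `l`-elements of `H` lie in `N`, the `l`-part of `H` is at most that of `N`. -/
theorem e_le_of_forall_isL {l : ℕ} [hl : Fact l.Prime] {N H : Subgroup G}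
    (h : ∀ y ∈ H, IsL l y → y ∈ N) : e l H ≤ e l N := by
  obtain ⟨S, hSH, hS, hSc⟩ := isPGroup_le_sylow (l := l) (H := H)
  have h1 := card_le_of_isPGroup hS (fun y hy => h y (hSH hy) (isL_of_mem hS hy) : S ≤ N)
  rw [hSc] at h1
  exact (Nat.pow_le_pow_iff_right hl.out.one_lt).mp h1

/-- A conjugate of an `s`-element lies in any centraliser of index prime to `s`. -/
theorem exists_conj_commute {s : ℕ} [Fact s.Prime] {a b : G} (hs : ¬ s ∣ ix a) (hb : IsL s b) :
    ∃ c : G, Commute (cj c b) a := by
  obtain ⟨k, hk⟩ := hb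
  obtain ⟨S, hS⟩ := GStructB.PElements.exists_mem_sylow hk
  obtain ⟨c, hc⟩ := exists_conj_le (A := cent a) hs S
  exact ⟨c, mem_cent.mp (hc b hS)⟩

theorem commute_inv_cj {a b : G} {c : G} (h : Commute (cj c b) a) : Commute b (cj c⁻¹ a) := by
  have := commute_cj h c⁻¹
  rwa [cj_inv_cj] at this

/-- `G = C(u) P` when the class size is a power of the prime of `P`. -/
theorem exists_mem_sylow_mul {p : ℕ} [hp : Fact p.Prime] {u : G} {a : ℕ} (hu : ix u = p ^ a)
    (P : Sylow p G) (g : G) : ∃ x ∈ (P : Subgroup G), ∃ y ∈ cent u, g = x * y := by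
  refine exists_mul_of_coprime ?_ g
  show (ix u).Coprime _
  rw [hu]
  exact ((hp.out.coprime_iff_not_dvd).mpr P.not_dvd_index).pow_left a

end Cfsg.Agent.GStructClassType
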